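import Groth.Agent.SiteDer.KInjPush
import Groth.Agent.DerCat.Devissage
import Groth.Agent.GrothSS.Derived
import Mathlib.Algebra.Homology.DerivedCategory.ExactFunctor
import Mathlib.CategoryTheory.Abelian.RightDerived

/-! # Right derived functors on the unbounded derived category: triangles and values on objects in one degree -/

set_option autoImplicit false
set_option linter.all false
set_option backward.isDefEq.respectTransparency false
set_option backward.defeqAttrib.useBackward true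

universe w w' v u v' u'

open CategoryTheory Limits Pretriangulated

namespace Groth.Agent.SiteRlim

section Exact

variable {A : Type u} [Category.{v} A] [Abelian A] [HasDerivedCategory.{w} A]
  {B : Type u'} [Category.{v'} B] [Abelian B] [HasDerivedCategory.{w'} B]
  (L : A ⥤ B) [L.Additive] [PreservesFiniteLimits L] [PreservesFiniteColimits L]

/-- homology commutes with exact functors, naturally -/
noncomputable def mapDerivedHomologyIso (n : ℤ) :
    L.mapDerivedCategory ⋙ DerivedCategory.homologyFunctor B n ≅ DerivedCategory.homologyFunctor A n ⋙ L :=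
  let F₁ := (L.mapHomologicalComplex (ComplexShape.up ℤ) ⋙ DerivedCategory.Q) ⋙ DerivedCategory.homologyFunctor B n
  let F₂ := HomologicalComplex.homologyFunctor A (ComplexShape.up ℤ) n ⋙ L
  letI : Localization.Lifting DerivedCategory.Q (HomologicalComplex.quasiIso A (ComplexShape.up ℤ)) F₁
      (L.mapDerivedCategory ⋙ DerivedCategory.homologyFunctor B n) :=
    ⟨(Functor.associator _ _ _).symm ≪≫ Functor.isoWhiskerRight L.mapDerivedCategoryFactors _⟩
  letI : Localization.Lifting DerivedCategory.Q (HomologicalComplex.quasiIso A (ComplexShape.up ℤ)) F₂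
      (DerivedCategory.homologyFunctor A n ⋙ L) :=
    ⟨(Functor.associator _ _ _).symm ≪≫ Functor.isoWhiskerRight (DerivedCategory.homologyFunctorFactors A n) _⟩
  Localization.liftNatIso DerivedCategory.Q (HomologicalComplex.quasiIso A (ComplexShape.up ℤ)) F₁ F₂ _ _
    (Functor.associator _ _ _ ≪≫ Functor.isoWhiskerLeft _ (DerivedCategory.homologyFunctorFactors B n) ≪≫
      NatIso.ofComponents (fun K => ShortComplex.mapHomologyIso (K.sc n) L)
        (fun {K K'} φ => ShortComplex.mapHomologyIso_hom_naturality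
          ((HomologicalComplex.shortComplexFunctor A (ComplexShape.up ℤ) n).map φ) L))

end Exact

variable {A : Type u} [Category.{v} A] [Abelian A] [IsGrothendieckAbelian.{v} A] [HasDerivedCategory.{w} A]
  {B : Type u'} [Category.{v'} B] [Abelian B] [HasDerivedCategory.{w'} B]

/-- K-injective representatives -/
lemma exists_kInj_iso (X : DerivedCategory A) :
    ∃ (I : CochainComplex A ℤ), I.IsKInjective ∧
      Nonempty (DerivedCategory.Qh.obj ((HomotopyCategory.quotient _ _).obj I) ≅ X) := by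
  obtain ⟨I, g, hI, hg⟩ := SiteDer.exists_kInj (DerivedCategory.Q.objPreimage X)
  exact ⟨I, hI, ⟨(DerivedCategory.quotientCompQhIso A).app I ≪≫ (asIso (DerivedCategory.Q.map g)).symm ≪≫
    DerivedCategory.Q.objObjPreimageIso X⟩⟩

variable (R : A ⥤ B) [R.Additive] (RR : DerivedCategory A ⥤ DerivedCategory B)
  (η : R.mapHomotopyCategory (ComplexShape.up ℤ) ⋙ DerivedCategory.Qh ⟶ DerivedCategory.Qh ⋙ RR)
  (hη : ∀ P, SiteDer.kInjP P → IsIso (η.app P))
include hη

/-- a right derived functor sends distinguished triangles to distinguished triangles -/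
theorem exists_triangle_rightDerived {X Y Z : DerivedCategory A} (f : X ⟶ Y) (g : Y ⟶ Z) (h : Z ⟶ X⟦(1 : ℤ)⟧)
    (hT : Triangle.mk f g h ∈ distTriang _) :
    ∃ h' : RR.obj Z ⟶ (RR.obj X)⟦(1 : ℤ)⟧, Triangle.mk (RR.map f) (RR.map g) h' ∈ distTriang _ := by
  obtain ⟨I, hI, ⟨eX⟩⟩ := exists_kInj_iso X
  obtain ⟨I', hI', ⟨eY⟩⟩ := exists_kInj_iso Y
  haveI := hI
  haveI := hI'
  obtain ⟨s, hs⟩ := (CochainComplex.IsKInjective.Qh_map_bijective ((HomotopyCategory.quotient _ _).obj I) I').2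
    (eX.hom ≫ f ≫ eY.inv)
  obtain ⟨σ, rfl⟩ := (HomotopyCategory.quotient _ _).map_surjective s
  let T₀ := CochainComplex.mappingCone.triangleh σ
  have hT₀ : T₀ ∈ distTriang _ := HomotopyCategory.mappingCone_triangleh_distinguished σ
  let TX := DerivedCategory.Qh.mapTriangle.obj T₀
  have hTX : TX ∈ distTriang _ := DerivedCategory.Qh.map_distinguished _ hT₀
  have hc : TX.mor₁ ≫ eY.hom = eX.hom ≫ f := by
    show DerivedCategory.Qh.map ((HomotopyCategory.quotient A (ComplexShape.up ℤ)).map σ) ≫ eY.hom = eX.hom ≫ f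
    rw [hs]; simp
  obtain ⟨i, hi₂, hi₃⟩ := complete_distinguished_triangle_morphism TX _ hTX hT eX.hom eY.hom hc
  let φ : TX ⟶ Triangle.mk f g h :=
    { hom₁ := eX.hom, hom₂ := eY.hom, hom₃ := i, comm₁ := hc, comm₂ := hi₂, comm₃ := hi₃ }
  haveI : IsIso i := isIso₃_of_isIso₁₂ φ hTX hT (inferInstanceAs (IsIso eX.hom)) (inferInstanceAs (IsIso eY.hom))
  let Rh := R.mapHomotopyCategory (ComplexShape.up ℤ) ⋙ DerivedCategory.Qh
  have k₁ : SiteDer.kInjP T₀.obj₁ := ⟨I, hI, ⟨Iso.refl _⟩⟩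
  have k₂ : SiteDer.kInjP T₀.obj₂ := ⟨I', hI', ⟨Iso.refl _⟩⟩
  have k₃ : SiteDer.kInjP T₀.obj₃ := by
    haveI : (CochainComplex.mappingCone σ).IsKInjective := by
      rw [CochainComplex.isKInjective_iff_rightOrthogonal]
      exact ObjectProperty.ext_of_isTriangulatedClosed₃ _ _ hT₀
        ((CochainComplex.isKInjective_iff_rightOrthogonal _).1 hI)
        ((CochainComplex.isKInjective_iff_rightOrthogonal _).1 hI')
    exact ⟨CochainComplex.mappingCone σ, inferInstance, ⟨Iso.refl _⟩⟩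
  haveI := hη _ k₁
  haveI := hη _ k₂
  haveI := hη _ k₃
  let φ₁ : Rh.obj T₀.obj₁ ≅ RR.obj X := asIso (η.app T₀.obj₁) ≪≫ RR.mapIso eX
  let φ₂ : Rh.obj T₀.obj₂ ≅ RR.obj Y := asIso (η.app T₀.obj₂) ≪≫ RR.mapIso eY
  let φ₃ : Rh.obj T₀.obj₃ ≅ RR.obj Z := asIso (η.app T₀.obj₃) ≪≫ RR.mapIso (asIso i)
  let TY := Rh.mapTriangle.obj T₀
  refine ⟨φ₃.inv ≫ TY.mor₃ ≫ φ₁.hom⟦(1 : ℤ)⟧', isomorphic_distinguished _ (Rh.map_distinguished _ hT₀) _
    (Triangle.isoMk _ TY φ₁.symm φ₂.symm φ₃.symm ?_ ?_ ?_)⟩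
  · show RR.map f ≫ φ₂.inv = φ₁.inv ≫ Rh.map T₀.mor₁
    rw [Iso.comp_inv_eq, Category.assoc, Iso.eq_inv_comp]
    show (η.app _ ≫ RR.map eX.hom) ≫ RR.map f = Rh.map T₀.mor₁ ≫ η.app _ ≫ RR.map eY.hom
    rw [← Category.assoc (Rh.map T₀.mor₁), η.naturality, Category.assoc, Category.assoc, Functor.comp_map,
      ← Functor.map_comp, ← Functor.map_comp]
    exact congrArg (η.app _ ≫ RR.map ·) hc.symm
  · show RR.map g ≫ φ₃.inv = φ₂.inv ≫ Rh.map T₀.mor₂
    rw [Iso.comp_inv_eq, Category.assoc, Iso.eq_inv_comp]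
    show (η.app _ ≫ RR.map eY.hom) ≫ RR.map g = Rh.map T₀.mor₂ ≫ η.app _ ≫ RR.map i
    rw [← Category.assoc (Rh.map T₀.mor₂), η.naturality, Category.assoc, Category.assoc, Functor.comp_map,
      ← Functor.map_comp, ← Functor.map_comp]
    exact congrArg (η.app _ ≫ RR.map ·) hi₂.symm
  · show (φ₃.inv ≫ TY.mor₃ ≫ φ₁.hom⟦(1 : ℤ)⟧') ≫ φ₁.inv⟦(1 : ℤ)⟧' = φ₃.inv ≫ TY.mor₃
    rw [Category.assoc, Category.assoc, ← Functor.map_comp, Iso.hom_inv_id, CategoryTheory.Functor.map_id,
      Category.comp_id]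

/-- the derived functor on an object in one degree -/
theorem exists_cx_rightDerived_single (M : A) (q : ℤ) :
    ∃ I : InjectiveResolution M, Nonempty (RR.obj ((DerivedCategory.singleFunctor A q).obj M) ≅
      (DerivedCategory.Q.obj ((R.mapHomologicalComplex (ComplexShape.up ℤ)).obj I.cochainComplex))⟦-q⟧) := by
  let I := injectiveResolution M
  refine ⟨I, ?_⟩
  haveI : (I.cochainComplex⟦-q⟧).IsStrictlyGE q := CochainComplex.isStrictlyGE_shift _ 0 (-q) q (by omega)
  haveI : ∀ n : ℤ, Injective ((I.cochainComplex⟦-q⟧).X n) := fun n =>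
    inferInstanceAs (Injective (I.cochainComplex.X _))
  haveI : (I.cochainComplex⟦-q⟧).IsKInjective := CochainComplex.isKInjective_of_injective _ q
  let P := (HomotopyCategory.quotient A (ComplexShape.up ℤ)).obj (I.cochainComplex⟦-q⟧)
  haveI := hη P ⟨_, inferInstance, ⟨Iso.refl _⟩⟩
  let e : DerivedCategory.Qh.obj P ≅ (DerivedCategory.singleFunctor A q).obj M :=
    (DerivedCategory.quotientCompQhIso A).app _ ≪≫ (DerivedCategory.Q.commShiftIso (-q)).app _ ≪≫
      (shiftFunctor _ (-q)).mapIso ((asIso (DerivedCategory.Q.map I.ι')).symm ≪≫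
        ((DerivedCategory.singleFunctorIsoCompQ A 0).app M).symm) ≪≫ DerCat.singleShiftIso q M
  exact ⟨(RR.mapIso e).symm ≪≫ (asIso (η.app P)).symm ≪≫
    DerivedCategory.Qh.mapIso ((R.mapHomotopyCategoryFactors (ComplexShape.up ℤ)).app _) ≪≫
    (DerivedCategory.quotientCompQhIso B).app _ ≪≫
    DerivedCategory.Q.mapIso (((R.mapHomologicalComplex (ComplexShape.up ℤ)).commShiftIso (-q)).app _) ≪≫
    (DerivedCategory.Q.commShiftIso (-q)).app _⟩

/-- `Hⁿ(RR M[-q]) = R^{n-q}(M)` -/
theorem nonempty_homology_rightDerived_single (M : A) (q n : ℤ) (p : ℕ) (h : q + p = n) :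
    Nonempty ((DerivedCategory.homologyFunctor B n).obj (RR.obj ((DerivedCategory.singleFunctor A q).obj M)) ≅
      (R.rightDerived p).obj M) := by
  obtain ⟨I, ⟨e⟩⟩ := exists_cx_rightDerived_single R RR η hη M q
  exact ⟨(DerivedCategory.homologyFunctor B n).mapIso e ≪≫
    (((DerivedCategory.homologyFunctor B 0).shiftIso (-q) n p (by omega)).app _) ≪≫
    (DerivedCategory.homologyFunctorFactors B (p : ℤ)).app _ ≪≫
    HomologicalComplex.homologyMapIso (GrothSS.mapExtendIso R I.cocomplex) _ ≪≫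
    HomologicalComplex.extendHomologyIso _ ComplexShape.embeddingUpNat (j := p) rfl ≪≫
    (I.isoRightDerivedObj R p).symm⟩

theorem isGE_rightDerived_single (M : A) (q : ℤ) :
    (RR.obj ((DerivedCategory.singleFunctor A q).obj M)).IsGE q := by
  obtain ⟨I, ⟨e⟩⟩ := exists_cx_rightDerived_single R RR η hη M q
  let K : CochainComplex B ℤ := (R.mapHomologicalComplex (ComplexShape.up ℤ)).obj I.cochainComplex
  haveI : K.IsStrictlyGE 0 := by dsimp [K]; infer_instance
  haveI : (DerivedCategory.Q.obj K).IsGE 0 := inferInstance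
  haveI := DerivedCategory.TStructure.t.isGE_shift (DerivedCategory.Q.obj K) 0 (-q) q (by omega)
  exact DerivedCategory.TStructure.t.isGE_of_iso e.symm q

end Groth.Agent.SiteRlim
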