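import Groth.Agent.SiteRlim.Local
import Groth.Agent.CohAcyc.Sections
import Groth.Agent.CohAcyc.ModExt
import Groth.Prelude.Def_ModSite

/-! # Test objects for abelian sheaves and sheaves of modules -/

set_option autoImplicit false
set_option linter.all false
set_option backward.isDefEq.respectTransparency false
set_option backward.defeqAttrib.useBackward true

universe v u

open CategoryTheory CategoryTheory.Limits CategoryTheory.Abelian Opposite

namespace Groth.Agent.SiteRlim

variable {C : Type u} [SmallCategory C] {J : GrothendieckTopology C}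

/-- test objects representing sections -/
def TestSys.ofSections {A : Type (u + 1)} [Category.{u} A] [Abelian A]
    (Φ : A ⥤ Sheaf J AddCommGrpCat.{u}) [Φ.Faithful] [Φ.PreservesEpimorphisms] [Φ.PreservesZeroMorphisms]
    (P : C ⥤ A) (e : ∀ (U : C) (M : A), (P.obj U ⟶ M) ≃ (Φ.obj M).obj.obj (op U))
    (he : ∀ {U : C} {M N : A} (φ : P.obj U ⟶ M) (f : M ⟶ N), e U N (φ ≫ f) = (Φ.map f).hom.app (op U) (e U M φ))
    (hmap : ∀ {U W : C} (g : W ⟶ U) {M : A} (φ : P.obj U ⟶ M),
      e W M (P.map g ≫ φ) = (Φ.obj M).obj.map g.op (e U M φ)) :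
    TestSys J A := by
  have h0 : ∀ (U : C) (M : A), e U M 0 = 0 := fun U M => by
    have := he (0 : P.obj U ⟶ M) (0 : M ⟶ M)
    rw [comp_zero, Functor.map_zero] at this
    exact this
  exact
  { P := P
    sep := fun {U M} φ S hS h => by
      apply (e U M).injective
      rw [h0]
      refine (((Presheaf.isSheaf_iff_isSheaf_forget J (Φ.obj M).obj (CategoryTheory.forget AddCommGrpCat.{u})).1
        (Φ.obj M).property |> (isSheaf_iff_isSheaf_of_type _ _).1).isSeparated S hS).ext fun W g hg => ?_
      show (Φ.obj M).obj.map g.op (e U M φ) = (Φ.obj M).obj.map g.op 0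
      rw [← hmap, h g hg, h0, map_zero]
    gen := fun {M N} f h => by
      apply Φ.map_injective
      rw [Φ.map_zero]
      ext U x
      have := he ((e U.unop M).symm x) f
      rw [h, h0, Equiv.apply_symm_apply] at this
      exact this.symm
    lift := fun {U M N} q hq φ => by
      haveI : Sheaf.IsLocallySurjective (Φ.map q) :=
        (Sheaf.isLocallySurjective_iff_epi' (A := AddCommGrpCat.{u}) (Φ.map q)).2 inferInstance
      refine ⟨_, Presheaf.imageSieve_mem J (Φ.map q).hom (e U N φ), fun W g hg => ?_⟩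
      obtain ⟨x, hx⟩ := hg
      refine ⟨(e W M).symm x, (e W N).injective ?_⟩
      rw [he, Equiv.apply_symm_apply, hmap, hx] }

section Gen

variable {A : Type (u + 1)} [Category.{u} A] {F : Sheaf J (Type u) ⥤ A} {G : A ⥤ Sheaf J (Type u)} (adj : F ⊣ G)

/-- maps out of free objects on representables are sections -/
noncomputable def secOf (U : C) (M : A) : (F.obj (CohAcyc.yonSh J U) ⟶ M) ≃ (G.obj M).obj.obj (op U) :=
  ((adj.homEquiv _ _).trans ((sheafificationAdjunction J (Type u)).homEquiv _ _)).trans yonedaEquiv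

lemma secOf_comp {U : C} {M N : A} (φ : F.obj (CohAcyc.yonSh J U) ⟶ M) (f : M ⟶ N) :
    secOf adj U N (φ ≫ f) = (G.map f).hom.app (op U) (secOf adj U M φ) := by
  simp only [secOf, Equiv.trans_apply]
  rw [Adjunction.homEquiv_naturality_right, Adjunction.homEquiv_naturality_right]
  exact yonedaEquiv_comp _ _

lemma secOf_map {U W : C} (g : W ⟶ U) {M : A} (φ : F.obj (CohAcyc.yonSh J U) ⟶ M) :
    secOf adj W M (F.map ((presheafToSheaf J (Type u)).map (yoneda.map g)) ≫ φ) =
      (G.obj M).obj.map g.op (secOf adj U M φ) := by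
  simp only [secOf, Equiv.trans_apply]
  rw [Adjunction.homEquiv_naturality_left, Adjunction.homEquiv_naturality_left]
  exact (yonedaEquiv_naturality _ g).symm

end Gen

/-- abelian sheaves -/
noncomputable def abTestSys (J : GrothendieckTopology C) : TestSys J (Sheaf J AddCommGrpCat.{u}) :=
  TestSys.ofSections (𝟭 _) (yoneda ⋙ presheafToSheaf J (Type u) ⋙ CohAcyc.zF J)
    (fun U M => secOf (CohAcyc.zAdj J) U M)
    (fun φ f => secOf_comp (CohAcyc.zAdj J) φ f)
    (fun g _ φ => secOf_map (CohAcyc.zAdj J) g φ)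

variable (R : Sheaf J RingCat.{u})

/-- sheaves of modules -/
noncomputable def modTestSys : TestSys J (SheafOfModules.{u} R) :=
  haveI : PreservesColimitsOfSize.{u, u} (SheafOfModules.toSheaf.{u} R) := inferInstance
  TestSys.ofSections (SheafOfModules.toSheaf R) (yoneda ⋙ presheafToSheaf J (Type u) ⋙ CohAcyc.oF R)
    (fun U M => secOf (CohAcyc.oAdj R) U M)
    (fun φ f => secOf_comp (CohAcyc.oAdj R) φ f)
    (fun g _ φ => secOf_map (CohAcyc.oAdj R) g φ)

/-- `H^k(V, -)` of abelian sheaves as `Ext` out of test objects -/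
lemma subsingleton_ext_ab (F : Sheaf J AddCommGrpCat.{u}) (k : ℕ) (U : C)
    (h : Subsingleton (CohSite.HU F k U)) : Subsingleton (Ext.{u} ((abTestSys J).P.obj U) F k) :=
  (CohAcyc.subsingleton_HU_iff F k U).1 h

/-- `H^k(V, -)` of modules as `Ext` out of test objects -/
lemma subsingleton_ext_mod [HasExt.{u} (SheafOfModules.{u} R)] (M : SheafOfModules.{u} R) (k : ℕ) (U : C)
    (h : Subsingleton (CohSite.HU ((SheafOfModules.toSheaf R).obj M) k U)) :
    Subsingleton (Ext.{u} ((modTestSys R).P.obj U) M k) := by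
  obtain ⟨e⟩ := CohAcyc.nonempty_ext_oF (CohAcyc.yonSh J U) M k
  haveI := (CohAcyc.subsingleton_HU_iff _ k U).1 h
  exact e.toEquiv.subsingleton

end Groth.Agent.SiteRlim
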