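import Groth.Agent.SiteRlim.Main
import Mathlib.CategoryTheory.Preadditive.AdditiveFunctor

/-! # The Milnor sequence, as two consequences -/

set_option autoImplicit false
set_option linter.all false
set_option backward.isDefEq.respectTransparency false
set_option backward.defeqAttrib.useBackward true

open CategoryTheory Limits Pretriangulated

namespace Groth.Agent.SiteRlim

variable {D : Type*} [Category* D] [Preadditive D] [HasZeroObject D] [HasShift D ℤ]
  [∀ n : ℤ, (shiftFunctor D n).Additive] [Pretriangulated D]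
  (K : ℕ → D) (t : ∀ n, K (n + 1) ⟶ K n) [HasProduct K] {L : D} (a : ∀ n, L ⟶ K n)
  (hL : CohCx.IsRlimVia K t L a) (S : D) (m : ℤ)

/-- the shift adjunction -/
noncomputable def shAdj (m : ℤ) : shiftFunctor D (-m) ⊣ shiftFunctor D m :=
  (shiftEquiv' D (-m) m (by simp)).toAdjunction

include hL

theorem exists_lift_family (x : ∀ n, S ⟶ (K n)⟦m⟧) (hx : ∀ n, x (n + 1) ≫ (t n)⟦m⟧' = x n) :
    ∃ y : S ⟶ L⟦m⟧, ∀ n, y ≫ (a n)⟦m⟧' = x n := by
  obtain ⟨e, he⟩ := exists_lift_isRlimVia K t a hL (fun n => ((shAdj m).homEquiv S (K n)).symm (x n)) (fun n => by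
    apply ((shAdj m).homEquiv S (K n)).injective
    rw [Adjunction.homEquiv_naturality_right, Equiv.apply_symm_apply, Equiv.apply_symm_apply, hx])
  refine ⟨(shAdj m).homEquiv S L e, fun n => ?_⟩
  rw [← Adjunction.homEquiv_naturality_right, he, Equiv.apply_symm_apply]

theorem eq_zero_of_limOne
    (hlim : ∀ u : ∀ n, S ⟶ (K n)⟦m - 1⟧, ∃ z : ∀ n, S ⟶ (K n)⟦m - 1⟧,
      ∀ n, z n - z (n + 1) ≫ (t n)⟦m - 1⟧' = u n)
    (y : S ⟶ L⟦m⟧) (hy : ∀ n, y ≫ (a n)⟦m⟧' = 0) : y = 0 := by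
  obtain ⟨c, hT⟩ := hL
  let A1 := (shAdj (D := D) (m - 1)).homAddEquiv
  let φ := ((shAdj m).homEquiv S L).symm y
  have hφ : φ ≫ Pi.lift a = 0 := Pi.hom_ext _ _ fun n => by
    rw [Category.assoc, Pi.lift_π, zero_comp]
    apply ((shAdj m).homAddEquiv S (K n)).injective
    rw [map_zero]
    refine ((shAdj m).homEquiv_naturality_right φ (a n)).trans ?_
    rw [Equiv.apply_symm_apply, hy]
  obtain ⟨w, hw⟩ := Triangle.coyoneda_exact₃ _ (rot_of_distTriang _ hT) (φ⟦(1 : ℤ)⟧') (by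
    show φ⟦(1 : ℤ)⟧' ≫ (-(Pi.lift a)⟦(1 : ℤ)⟧') = 0
    rw [Preadditive.comp_neg, ← Functor.map_comp, hφ, Functor.map_zero, neg_zero])
  let e : ((shiftFunctor D (-m)).obj S)⟦(1 : ℤ)⟧ ≅ (shiftFunctor D (-(m - 1))).obj S :=
    ((shiftFunctorAdd' D (-m) 1 (-(m - 1)) (by omega)).app S).symm
  obtain ⟨z, hz⟩ := hlim (fun n => A1 S (K n) (e.inv ≫ w ≫ Pi.π K n))
  have hdiff : w = (e.hom ≫ Pi.lift fun n => (A1 S (K n)).symm (z n)) ≫ diffMap K t := by
    refine Pi.hom_ext _ _ fun n => ?_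
    simp only [Category.assoc, Pi.lift_π, Preadditive.comp_sub]
    rw [← Category.assoc (Pi.lift _) (Pi.π K (n + 1)), Pi.lift_π, ← Preadditive.comp_sub, ← cancel_epi e.inv,
      Iso.inv_hom_id_assoc]
    apply (A1 S (K n)).injective
    rw [map_sub, AddEquiv.apply_symm_apply]
    refine (hz n).symm.trans (congrArg (z n - ·) ?_)
    refine Eq.trans ?_ ((shAdj (m - 1)).homEquiv_naturality_right _ (t n)).symm
    exact congrArg (· ≫ _) ((A1 S (K (n + 1))).apply_symm_apply (z (n + 1))).symm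
  have h0 : φ = 0 := by
    apply (shiftFunctor D (1 : ℤ)).map_injective
    rw [hw, Functor.map_zero, hdiff]
    show (_ ≫ diffMap K t) ≫ c = 0
    rw [Category.assoc]
    erw [comp_distTriang_mor_zero₂₃ _ hT]
    rw [comp_zero]
  rw [← ((shAdj m).homEquiv S L).apply_symm_apply y]
  exact (congrArg ((shAdj m).homEquiv S L) h0).trans ((shAdj m).homAddEquiv S L).map_zero

end Groth.Agent.SiteRlim
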