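import Groth.Agent.SiteRlim.Tower
import Groth.Agent.SiteRlim.Derived
import Groth.Agent.DerCat.KInjProducts

/-! # Derived direct images of truncation towers -/

set_option autoImplicit false
set_option linter.all false
set_option backward.isDefEq.respectTransparency false
set_option backward.defeqAttrib.useBackward true

universe w w' u v₁ u₁

open CategoryTheory Limits Pretriangulated DerivedCategory CategoryTheory.Abelian

namespace Groth.Agent.SiteRlim

section Products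

/-- countable products in the derived category -/
theorem hasProduct_nat {A : Type (u + 1)} [Category.{u} A] [Abelian A] [IsGrothendieckAbelian.{u} A]
    [HasDerivedCategory.{w} A] (X : ℕ → DerivedCategory A) : HasProduct X := by
  haveI : HasLimitsOfSize.{0, 0} A := hasLimitsOfSizeShrink.{0, 0} A
  choose I hI e using fun n => exists_kInj_iso (X n)
  haveI := hI
  exact DerCat.hasProduct_of_isKInjective X I
    (fun n => ((DerivedCategory.quotientCompQhIso A).app (I n)).symm ≪≫ (e n).some)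

end Products

variable {A : Type (u + 1)} [Category.{u} A] [Abelian A] [HasDerivedCategory.{w} A]

section Cones

variable (P : ObjectProperty A) [WSerre.IsWeakSerre P] (E : DerivedCategory A)

lemma cohIn_truncTower (hE : WSerre.cohIn P E) (n : ℕ) : WSerre.cohIn P (CohCx.truncTower E n) := fun i => by
  by_cases hi : -(n : ℤ) ≤ i
  · haveI := isIso_homology_toTruncTower E n i hi
    exact P.prop_of_iso (asIso ((homologyFunctor A i).map (CohCx.toTruncTower E n))) (hE i)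
  · exact P.prop_of_isZero (isZero_of_isGE _ (-(n : ℤ)) i (by omega))

/-- cones in the truncation tower are concentrated in one degree -/
theorem exists_iso_single_cone (hE : WSerre.cohIn P E) (l : ℕ) (X : DerivedCategory A)
    (f : CohCx.truncTower E l ⟶ X) (h : X ⟶ (CohCx.truncTower E (l + 1))⟦(1 : ℤ)⟧)
    (hT : Triangle.mk (CohCx.truncTowerMap E l) f h ∈ distTriang _) :
    ∃ F, P F ∧ Nonempty (X ≅ (singleFunctor A (-(l : ℤ) - 2)).obj F) := by
  have hz : ∀ q, q ≠ -(l : ℤ) - 2 → IsZero ((homologyFunctor A q).obj X) := fun q hq₁ => by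
    by_cases hq₂ : -(l : ℤ) ≤ q
    · exact isZero_homology_cone_of_isIso _ f h hT q (isIso_homology_truncTowerMap E l q hq₂)
        (isIso_homology_truncTowerMap E l (q + 1) (by omega))
    · refine isZero_homology_cone _ f h hT q
        ⟨fun _ _ _ => (isZero_of_isGE _ (-(l : ℤ)) q (by omega)).eq_of_src _ _⟩ ?_
      by_cases hq₃ : q = -(l : ℤ) - 1
      · haveI := isIso_homology_truncTowerMap E l (q + 1) (by omega)
        infer_instance
      · exact ⟨fun _ _ _ => (isZero_of_isGE _ (-((l + 1 : ℕ) : ℤ)) (q + 1) (by omega)).eq_of_tgt _ _⟩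
  haveI : X.IsGE (-(l : ℤ) - 2) := (DerivedCategory.isGE_iff _ _).2 fun q hq => hz q (by omega)
  haveI : X.IsLE (-(l : ℤ) - 2) := (DerivedCategory.isLE_iff _ _).2 fun q hq => hz q (by omega)
  exact ⟨_, cohIn_cone _ f h hT P (cohIn_truncTower P E hE (l + 1)) (cohIn_truncTower P E hE l) _,
    DerCat.exists_iso_single_homology X _⟩

end Cones

variable {C : Type u₁} [Category.{v₁} C] {J : GrothendieckTopology C} (T : TestSys J A)
  {D : Type u₁} [Category.{v₁} D] {K : GrothendieckTopology D}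
  {A' : Type (u + 1)} [Category.{u} A'] [Abelian A'] [HasDerivedCategory.{w} A'] (T' : TestSys K A')
  (u₀ : D → C) (RR : DerivedCategory A ⥤ DerivedCategory A')
  (hε : ∀ (W : D) (m : ℤ), ∃ ε : testObj T' W m ⟶ RR.obj (testObj T (u₀ W) m),
    ∀ Z, Function.Bijective (fun ψ : testObj T (u₀ W) m ⟶ Z => ε ≫ RR.map ψ))

include hε

lemma bijective_transfer (W : D) (m : ℤ) {Z' Z : DerivedCategory A} (t : Z' ⟶ Z)
    (h : Function.Bijective (fun ψ : testObj T (u₀ W) m ⟶ Z' => ψ ≫ t)) :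
    Function.Bijective (fun φ : testObj T' W m ⟶ RR.obj Z' => φ ≫ RR.map t) := by
  obtain ⟨ε, hε⟩ := hε W m
  refine (Function.Bijective.of_comp_iff _ (hε Z')).1 ?_
  convert (hε Z).comp h using 1
  funext ψ
  simp

lemma surjective_transfer (W : D) (m : ℤ) {Z' Z : DerivedCategory A} (t : Z' ⟶ Z)
    (h : Function.Surjective (fun ψ : testObj T (u₀ W) m ⟶ Z' => ψ ≫ t)) :
    Function.Surjective (fun φ : testObj T' W m ⟶ RR.obj Z' => φ ≫ RR.map t) := fun y => by
  obtain ⟨ε, hε⟩ := hε W m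
  obtain ⟨z, rfl⟩ := (hε Z).2 y
  obtain ⟨x, rfl⟩ := h z
  exact ⟨ε ≫ RR.map x, by simp⟩

/-- left t-exactness -/
theorem isGE_of_transfer (X : DerivedCategory A) (a : ℤ) [X.IsGE a] : (RR.obj X).IsGE a := by
  rw [DerivedCategory.isGE_iff]
  intro i hi
  let e := ((homologyFunctor A' 0).shiftIso i 0 i (by simp)).app (RR.obj X)
  refine IsZero.of_iso ?_ e.symm
  rw [IsZero.iff_id_eq_zero]
  refine T'.gen (M := (homologyFunctor A' 0).obj ((RR.obj X)⟦i⟧)) _ fun U φ => ?_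
  refine (Category.comp_id φ).trans ?_
  obtain ⟨S, hS, h⟩ := T'.local_surj φ
  refine T'.sep φ S hS fun W g hg => ?_
  obtain ⟨ψ, hψ⟩ := h g hg
  have hz : ψ = 0 := by
    apply (adjShift T' W i (RR.obj X)).symm.injective
    obtain ⟨ε, hε⟩ := hε W i
    obtain ⟨x, hx⟩ := (hε X).2 ((adjShift T' W i (RR.obj X)).symm ψ)
    obtain ⟨y, hy⟩ := (hε X).2 ((adjShift T' W i (RR.obj X)).symm 0)
    haveI := isLE_testObj T (u₀ W) i
    rw [← hx, ← hy, TStructure.t.zero x i a hi, TStructure.t.zero y i a hi]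
  rw [← hψ, hz, T'.cl_zero]

variable (R : A ⥤ A') [R.Additive] [IsGrothendieckAbelian.{u} A]
  (η : R.mapHomotopyCategory (ComplexShape.up ℤ) ⋙ DerivedCategory.Qh ⟶ DerivedCategory.Qh ⋙ RR)
  (hη : ∀ Q, SiteDer.kInjP Q → IsIso (η.app Q))
  (P : ObjectProperty A) [WSerre.IsWeakSerre P] (N : ℤ)
  (hN : ∀ F, P F → ∀ p : ℕ, N < (p : ℤ) → IsZero ((R.rightDerived p).obj F))
  {B : Set C} (hB : ∀ U : C, ∃ (ι : Type u₁) (Y : ι → C) (g : ∀ i, Y i ⟶ U),
    Sieve.ofArrows Y g ∈ J U ∧ ∀ i, Y i ∈ B)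
  [HasExt.{w'} A]
  (hd : ∀ V ∈ B, ∃ d : ℕ, ∀ S ∈ J V, ∃ (ι : Type u₁) (Y : ι → C) (g : ∀ i, Y i ⟶ V),
    (∀ i, S.arrows (g i)) ∧ Sieve.ofArrows Y g ∈ J V ∧
    ∀ (i : ι) (M : A), P M → ∀ k : ℕ, d < k → Subsingleton (Ext.{w'} (T.P.obj (Y i)) M k))
  {B' : Set D} (hB' : ∀ U : D, ∃ (ι : Type u₁) (Y : ι → D) (g : ∀ i, Y i ⟶ U),
    Sieve.ofArrows Y g ∈ K U ∧ ∀ i, Y i ∈ B')
  (hlim : ∀ (Kt : ℕ → DerivedCategory A) (t : ∀ n, Kt (n + 1) ⟶ Kt n) [HasProduct Kt]
    [HasProduct fun n => RR.obj (Kt n)] (L : DerivedCategory A) (a : ∀ n, L ⟶ Kt n),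
    CohCx.IsRlimVia Kt t L a → CohCx.IsRlimVia (fun n => RR.obj (Kt n)) (fun n => RR.map (t n)) (RR.obj L)
      (fun n => RR.map (a n)))
  [IsGrothendieckAbelian.{u} A']
  (X : DerivedCategory A) (hX : WSerre.cohIn P X)

include hη hN hB hd hB' hlim hX

/-- the general criterion -/
theorem isIso_homology_push_truncTower
    (hb : ∀ V ∈ B', ∀ i : ℤ, ∃ N₀ : ℕ, ∀ S ∈ K V, ∃ (ι : Type u₁) (Y : ι → D) (g : ∀ k, Y k ⟶ V),
      (∀ k, S.arrows (g k)) ∧ Sieve.ofArrows Y g ∈ K V ∧ ∀ k l, N₀ ≤ l →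
        Function.Bijective (fun φ : testObj T' (Y k) i ⟶ RR.obj (CohCx.truncTower X (l + 1)) =>
          φ ≫ RR.map (CohCx.truncTowerMap X l)) ∧
        Function.Surjective (fun φ : testObj T' (Y k) (i - 1) ⟶ RR.obj (CohCx.truncTower X (l + 1)) =>
          φ ≫ RR.map (CohCx.truncTowerMap X l)))
    (n : ℕ) (j : ℤ) (hj : N - (n : ℤ) ≤ j) :
    IsIso ((homologyFunctor A' j).map (RR.map (CohCx.toTruncTower X n))) := by
  haveI := hasProduct_nat (CohCx.truncTower X)
  haveI := hasProduct_nat (fun n => RR.obj (CohCx.truncTower X n))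
  have hL : CohCx.IsRlimVia (CohCx.truncTower X) (CohCx.truncTowerMap X) X (CohCx.toTruncTower X) := by
    refine isRlimVia_truncTower T hB X fun V hV => ?_
    obtain ⟨d, hd⟩ := hd V hV
    refine ⟨fun _ => (d : ℤ), fun S hS => ?_⟩
    obtain ⟨ι, Y, g, h₁, h₂, h₃⟩ := hd S hS
    exact ⟨ι, Y, g, h₁, h₂, fun i m k hk _ => h₃ i _ (hX (m - k)) k (by simpa using hk)⟩
  refine isIso_homology_rlim T' hB' _ _ _ _ (hlim _ _ _ _ hL) j n (fun l hl => ?_) (fun V hV => hb V hV j) n le_rfl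
  obtain ⟨Z, f, h, hT⟩ := distinguished_cocone_triangle (CohCx.truncTowerMap X l)
  obtain ⟨F, hF, ⟨e⟩⟩ := exists_iso_single_cone P X hX l Z f h hT
  obtain ⟨h', hT'⟩ := exists_triangle_rightDerived R RR η hη _ _ _ hT
  have hz : ∀ m, j - 1 ≤ m → IsZero ((homologyFunctor A' m).obj (RR.obj Z)) := fun m hm => by
    refine IsZero.of_iso ?_ ((homologyFunctor A' m).mapIso (RR.mapIso e))
    haveI := isGE_rightDerived_single R RR η hη F (-(l : ℤ) - 2)
    by_cases hq : m < -(l : ℤ) - 2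
    · exact isZero_of_isGE _ (-(l : ℤ) - 2) m hq
    · obtain ⟨p, hp⟩ : ∃ p : ℕ, -(l : ℤ) - 2 + p = m := ⟨(m + l + 2).toNat, by omega⟩
      exact IsZero.of_iso (hN F hF p (by omega)) (nonempty_homology_rightDerived_single R RR η hη F _ m p hp).some
  haveI : Mono ((homologyFunctor A' j).map (RR.map (CohCx.truncTowerMap X l))) :=
    (HomologySequence.mono_homologyMap_mor₁_iff _ hT' (j - 1) j (by omega)).2 ((hz (j - 1) le_rfl).eq_of_src _ _)
  haveI : Epi ((homologyFunctor A' j).map (RR.map (CohCx.truncTowerMap X l))) :=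
    (HomologySequence.epi_homologyMap_mor₁_iff _ hT' j).2 ((hz j (by omega)).eq_of_tgt _ _)
  exact isIso_of_mono_of_epi _

/-- vanishing upstairs -/
theorem isIso_homology_push_of_upstairs
    (hd' : ∀ V ∈ B', ∃ d : ℕ, ∀ S ∈ K V, ∃ (ι : Type u₁) (Y : ι → D) (g : ∀ i, Y i ⟶ V),
      (∀ i, S.arrows (g i)) ∧ Sieve.ofArrows Y g ∈ K V ∧
      ∀ (i : ι) (M : A), P M → ∀ k : ℕ, d < k → Subsingleton (Ext.{w'} (T.P.obj (u₀ (Y i))) M k))
    (n : ℕ) (j : ℤ) (hj : N - (n : ℤ) ≤ j) :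
    IsIso ((homologyFunctor A' j).map (RR.map (CohCx.toTruncTower X n))) := by
  refine isIso_homology_push_truncTower T T' u₀ RR hε R η hη P N hN hB hd hB' hlim X hX (fun V hV i => ?_) n j hj
  obtain ⟨d, hd'⟩ := hd' V hV
  refine ⟨((d : ℤ) - i + 1).toNat, fun S hS => ?_⟩
  obtain ⟨ι, Y, g, h₁, h₂, h₃⟩ := hd' S hS
  refine ⟨ι, Y, g, h₁, h₂, fun k l hl => ?_⟩
  obtain ⟨Z, f, h, hT⟩ := distinguished_cocone_triangle (CohCx.truncTowerMap X l)
  obtain ⟨F, hF, ⟨e⟩⟩ := exists_iso_single_cone P X hX l Z f h hT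
  have hv : ∀ m, i - 1 ≤ m → ∀ φ : testObj T (u₀ (Y k)) m ⟶ Z, φ = 0 := fun m hm φ => by
    rw [← cancel_mono e.hom, zero_comp]
    refine hom_eq_zero T _ m _ (-(l : ℤ) - 2) (fun q hq hqm => ?_) _
    by_cases hq' : q = -(l : ℤ) - 2
    · subst hq'
      exact Or.inr fun c hc => h₃ k _ (P.prop_of_iso (DerCat.homologySingleIso _ F).symm hF) c (by omega)
    · exact Or.inl (DerCat.isZero_homology_single _ q hq' F)
  obtain ⟨hb₁, hb₂⟩ := bij_surj_of_cone T (u₀ (Y k)) i _ f h hT (hv i (by omega)) (hv (i - 1) le_rfl)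
  exact ⟨bijective_transfer T T' u₀ RR hε _ _ _ hb₁, surjective_transfer T T' u₀ RR hε _ _ _ hb₂⟩

/-- vanishing downstairs -/
theorem cohIn_and_isIso_homology_push [HasExt.{w'} A'] (P' : ObjectProperty A') [WSerre.IsWeakSerre P']
    (hR : ∀ F, P F → ∀ p : ℕ, P' ((R.rightDerived p).obj F))
    (hd' : ∀ V ∈ B', ∃ d : ℕ, ∀ S ∈ K V, ∃ (ι : Type u₁) (Y : ι → D) (g : ∀ i, Y i ⟶ V),
      (∀ i, S.arrows (g i)) ∧ Sieve.ofArrows Y g ∈ K V ∧
      ∀ (i : ι) (M : A'), P' M → ∀ k : ℕ, d < k → Subsingleton (Ext.{w'} (T'.P.obj (Y i)) M k)) :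
    WSerre.cohIn P' (RR.obj X) ∧ ∀ (n : ℕ) (j : ℤ), N - (n : ℤ) ≤ j →
      IsIso ((homologyFunctor A' j).map (RR.map (CohCx.toTruncTower X n))) := by
  have hsingle : ∀ F, P F → ∀ q, WSerre.cohIn P' (RR.obj ((singleFunctor A q).obj F)) := fun F hF q m => by
    haveI := isGE_rightDerived_single R RR η hη F q
    by_cases hq : m < q
    · exact P'.prop_of_isZero (isZero_of_isGE _ q m hq)
    · obtain ⟨p, hp⟩ : ∃ p : ℕ, q + p = m := ⟨(m - q).toNat, by omega⟩
      exact P'.prop_of_iso (nonempty_homology_rightDerived_single R RR η hη F q m p hp).some.symm (hR F hF p)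
  have hiso := isIso_homology_push_truncTower T T' u₀ RR hε R η hη P N hN hB hd hB' hlim X hX (fun V hV i => by
    obtain ⟨d, hd'⟩ := hd' V hV
    refine ⟨((d : ℤ) + max N 0 - i + 1).toNat, fun S hS => ?_⟩
    obtain ⟨ι, Y, g, h₁, h₂, h₃⟩ := hd' S hS
    refine ⟨ι, Y, g, h₁, h₂, fun k l hl => ?_⟩
    obtain ⟨Z, f, h, hT⟩ := distinguished_cocone_triangle (CohCx.truncTowerMap X l)
    obtain ⟨F, hF, ⟨e⟩⟩ := exists_iso_single_cone P X hX l Z f h hT
    obtain ⟨h', hT'⟩ := exists_triangle_rightDerived R RR η hη _ _ _ hT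
    have hv : ∀ m, i - 1 ≤ m → m ≤ i → ∀ φ : testObj T' (Y k) m ⟶ RR.obj Z, φ = 0 := fun m hm hm' φ => by
      rw [← cancel_mono (RR.map e.hom), zero_comp]
      haveI := isGE_rightDerived_single R RR η hη F (-(l : ℤ) - 2)
      refine hom_eq_zero T' _ m _ (-(l : ℤ) - 2) (fun q hq hqm => ?_) _
      obtain ⟨p, hp⟩ : ∃ p : ℕ, -(l : ℤ) - 2 + p = q := ⟨(q + l + 2).toNat, by omega⟩
      by_cases hqN : N < (p : ℤ)
      · exact Or.inl (IsZero.of_iso (hN F hF p hqN) (nonempty_homology_rightDerived_single R RR η hη F _ q p hp).some)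
      · exact Or.inr fun c hc => h₃ k _ (hsingle F hF _ q) c (by omega)
    exact bij_surj_of_cone T' (Y k) i _ (RR.map f) h' hT' (hv i (by omega) le_rfl) (hv (i - 1) le_rfl (by omega)))
  refine ⟨fun i => ?_, hiso⟩
  let n₀ := (N - i).toNat
  haveI := hiso n₀ i (by omega)
  refine P'.prop_of_iso (asIso ((homologyFunctor A' i).map (RR.map (CohCx.toTruncTower X n₀)))).symm ?_
  let E := CohCx.truncTower X n₀
  have hE : WSerre.cohIn P E := cohIn_truncTower P X hX n₀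
  let t := TStructure.t (C := A)
  let n := max (-(n₀ : ℤ)) i
  have hT := t.triangleLEGT_distinguished n E
  haveI : ((t.truncGT n).obj E).IsGE (n + 1) := inferInstance
  haveI := isGE_of_transfer T T' u₀ RR hε ((t.truncGT n).obj E) (n + 1)
  let Q : ObjectProperty (DerivedCategory A) := fun Z => WSerre.cohIn P' (RR.obj Z)
  haveI : Q.IsClosedUnderIsomorphisms :=
    ⟨fun {Z Z'} e h => (WSerre.cohIn P' : ObjectProperty (DerivedCategory A')).prop_of_iso (RR.mapIso e) h⟩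
  have hLE : Q ((t.truncLE n).obj E) := by
    refine DerCat.prop_of_single Q (fun Z hZ => ?_) (fun T₀ hT₀ h₁ h₃ => ?_) _ (-(n₀ : ℤ)) n fun j _ hj => ?_
    · refine Q.prop_of_iso (IsZero.iso ((singleFunctor A 0).map_isZero (isZero_zero A)) hZ) ?_
      exact hsingle _ P.prop_zero 0
    · obtain ⟨g, hg⟩ := exists_triangle_rightDerived R RR η hη _ _ _ hT₀
      exact SiteDer.cohIn_obj₂ P' _ hg h₁ h₃
    · haveI := DerCat.isIso_homology_truncLEι E n j hj
      exact hsingle _ (P.prop_of_iso (asIso ((homologyFunctor A j).map ((t.truncLEι n).app E))).symm (hE j)) j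
  obtain ⟨g, hg⟩ := exists_triangle_rightDerived R RR η hη _ _ _ hT
  have z₁ : IsZero ((homologyFunctor A' (i - 1)).obj (RR.obj ((t.truncGT n).obj E))) :=
    isZero_of_isGE _ (n + 1) _ (by omega)
  have z₂ : IsZero ((homologyFunctor A' i).obj (RR.obj ((t.truncGT n).obj E))) :=
    isZero_of_isGE _ (n + 1) _ (by omega)
  haveI : Mono ((homologyFunctor A' i).map (RR.map ((t.truncLEι n).app E))) :=
    (HomologySequence.mono_homologyMap_mor₁_iff _ hg (i - 1) i (by omega)).2 (z₁.eq_of_src _ _)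
  haveI : Epi ((homologyFunctor A' i).map (RR.map ((t.truncLEι n).app E))) :=
    (HomologySequence.epi_homologyMap_mor₁_iff _ hg i).2 (z₂.eq_of_tgt _ _)
  haveI := isIso_of_mono_of_epi ((homologyFunctor A' i).map (RR.map ((t.truncLEι n).app E)))
  exact P'.prop_of_iso (asIso ((homologyFunctor A' i).map (RR.map ((t.truncLEι n).app E)))) (hLE i)

end Groth.Agent.SiteRlim
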