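import Groth.Agent.SiteRlim.Acyclic
import Groth.Prelude.Def_CohCx

/-! # Free sheaves on representables as test objects -/

set_option autoImplicit false
set_option linter.all false
set_option backward.isDefEq.respectTransparency false
set_option backward.defeqAttrib.useBackward true

universe w u

open CategoryTheory CategoryTheory.Limits CategoryTheory.Abelian Opposite DerivedCategory

namespace Groth.Agent.SiteRlim

variable {C : Type u} [SmallCategory C] (J : GrothendieckTopology C)

/-- the free test system -/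
noncomputable def freeTestSys : TestSys J (Sheaf J AddCommGrpCat.{u}) :=
  TestSys.ofSections (𝟭 _)
    (yoneda ⋙ (Functor.whiskeringRight _ _ _).obj AddCommGrpCat.free ⋙ presheafToSheaf J AddCommGrpCat.{u})
    (fun U M => CohAcyc.secEquiv' U M)
    (fun φ f => CohAcyc.secEquiv'_comp _ φ f)
    (fun g _ φ => CohAcyc.secEquiv'_naturality g _ φ)

variable {J}

/-- sections as maps, additively -/
noncomputable def secAdd (U : C) (F : Sheaf J AddCommGrpCat.{u}) :
    ((freeTestSys J).P.obj U ⟶ F) ≃+ F.obj.obj (op U) :=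
  { CohAcyc.secEquiv' U F with
    map_add' := fun φ ψ => by
      show CohAcyc.secEquiv' U F (φ + ψ) = CohAcyc.secEquiv' U F φ + CohAcyc.secEquiv' U F ψ
      have h := CohAcyc.secEquiv'_comp U (biprod.lift φ ψ) (biprod.fst + biprod.snd)
      rw [Preadditive.comp_add, biprod.lift_fst, biprod.lift_snd] at h
      have ha := CohAcyc.secEquiv'_comp U (biprod.lift φ ψ) biprod.fst
      rw [biprod.lift_fst] at ha
      have hb := CohAcyc.secEquiv'_comp U (biprod.lift φ ψ) biprod.snd
      rw [biprod.lift_snd] at hb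
      rw [h, ha, hb]
      rfl }

variable [HasDerivedCategory.{w} (Sheaf J AddCommGrpCat.{u})]

lemma acyc_of_HU {V : C} (K : DerivedCategory (Sheaf J AddCommGrpCat.{u}))
    (h : ∀ (p : ℕ) (q : ℤ), Subsingleton (CohSite.HU (CohCx.HD K q) (p + 1) V)) :
    Acyc.{w, u} (freeTestSys J) V K := fun q k => h k q

/-- hypercohomology equals sections of the cohomology sheaf -/
theorem nonempty_HDU_equiv_sections {B : Set C}
    (hB : ∀ U : C, ∃ (ι : Type u) (Y : ι → C) (f : ∀ i, Y i ⟶ U), Sieve.ofArrows Y f ∈ J U ∧ ∀ i, Y i ∈ B)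
    (K : DerivedCategory (Sheaf J AddCommGrpCat.{u}))
    (h : ∀ U ∈ B, ∀ (p : ℕ) (q : ℤ), Subsingleton (CohSite.HU (CohCx.HD K q) (p + 1) U))
    {U : C} (hU : U ∈ B) (q : ℤ) : Nonempty (CohCx.HDU K q U ≃+ (CohCx.HD K q).obj.obj (op U)) := by
  let T := freeTestSys J
  have hb := cl_bijective.{w, u} T hB (K⟦q⟧) (fun V hV => (acyc_of_HU K (h V hV)).shift q) hU
  let e₁ : (T.S.obj U ⟶ K⟦q⟧) ≃+ (T.P.obj U ⟶ (homologyFunctor _ 0).obj (K⟦q⟧)) :=
    { Equiv.ofBijective T.cl hb with map_add' := fun φ ψ => cl_add T φ ψ }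
  let i : (homologyFunctor _ 0).obj (K⟦q⟧) ≅ CohCx.HD K q :=
    ((homologyFunctor _ 0).shiftIso q 0 q (by omega)).app K
  exact ⟨(e₁.trans { Iso.homToEquiv i with map_add' := fun a b => Preadditive.add_comp _ _ _ a b _ }).trans (secAdd U _)⟩

end Groth.Agent.SiteRlim
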