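import Groth.Agent.SiteRlim.RlimLimit
import Groth.Agent.SiteRlim.FreeTest
import Groth.Prelude.Def_DCoh2

/-! # Derived limits of systems of sheaves with acyclic cohomology -/

set_option autoImplicit false
set_option linter.all false
set_option backward.isDefEq.respectTransparency false
set_option backward.defeqAttrib.useBackward true

universe w u

open CategoryTheory CategoryTheory.Limits CategoryTheory.Abelian Opposite DerivedCategory

namespace Groth.Agent.SiteRlim

variable {C : Type u} [SmallCategory C] {J : GrothendieckTopology C}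
  [HasDerivedCategory.{w} (Sheaf J AddCommGrpCat.{u})]

/-- `R¹lim` of sections, as maps -/
lemma hlim_of_sections (G : ℕ → Sheaf J AddCommGrpCat.{u}) (g : ∀ n, G (n + 1) ⟶ G n) (V : C)
    (h : CohCx.LimOneIsZero (fun n => (G n).obj.obj (op V)) (fun n => ((g n).hom.app (op V)).hom))
    (v : ∀ n, (freeTestSys J).P.obj V ⟶ G n) :
    ∃ z : ∀ n, (freeTestSys J).P.obj V ⟶ G n, ∀ n, z n - z (n + 1) ≫ g n = v n := by
  obtain ⟨x, hx⟩ := h (fun n => secAdd V (G n) (v n))
  refine ⟨fun n => (secAdd V (G n)).symm (x n), fun n => (secAdd V (G n)).injective ?_⟩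
  rw [map_sub, AddEquiv.apply_symm_apply]
  refine Eq.trans ?_ (congrFun hx n)
  refine congrArg (x n - ·) ((CohAcyc.secEquiv'_comp V _ (g n)).trans ?_)
  exact congrArg _ ((secAdd V (G (n + 1))).apply_symm_apply _)

lemma exists_via_of_isRlim {K : ℕ → DerivedCategory (Sheaf J AddCommGrpCat.{u})} {t : ∀ n, K (n + 1) ⟶ K n}
    [HasProduct K] {L : DerivedCategory (Sheaf J AddCommGrpCat.{u})} (hL : DCoh.IsRlim K t L) :
    ∃ a : ∀ n, L ⟶ K n, CohCx.IsRlimVia K t L a := by
  obtain ⟨a, c, hT⟩ := hL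
  refine ⟨fun n => a ≫ Pi.π K n, c, ?_⟩
  have : Pi.lift (fun n => a ≫ Pi.π K n) = a := Pi.hom_ext _ _ fun n => by simp
  rw [this]
  exact hT

variable {B : Set C}
  (hB : ∀ U : C, ∃ (ι : Type u) (Y : ι → C) (f : ∀ i, Y i ⟶ U), Sieve.ofArrows Y f ∈ J U ∧ ∀ i, Y i ∈ B)
include hB

theorem exists_isIso_HD_limit (K : ℕ → DerivedCategory (Sheaf J AddCommGrpCat.{u})) (t : ∀ n, K (n + 1) ⟶ K n)
    [HasProduct K] {L : DerivedCategory (Sheaf J AddCommGrpCat.{u})} (a : ∀ n, L ⟶ K n)
    (hL : CohCx.IsRlimVia K t L a) (q : ℤ)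
    (h1 : ∀ U ∈ B, ∀ (p : ℕ) (q : ℤ) (n : ℕ), Subsingleton (CohSite.HU (CohCx.HD (K n) q) (p + 1) U))
    (h2 : ∀ U ∈ B, CohCx.LimOneIsZero (fun n => (CohCx.HD (K n) (q - 1)).obj.obj (op U))
      (fun n => (((DerivedCategory.homologyFunctor _ (q - 1)).map (t n)).hom.app (op U)).hom)) :
    ∃ θ : CohCx.HD L q ⟶ limit (CohCx.opSequence (fun n => CohCx.HD (K n) q)
      (fun n => (DerivedCategory.homologyFunctor _ q).map (t n))), IsIso θ ∧
      ∀ n, θ ≫ limit.π _ (op n) = (DerivedCategory.homologyFunctor _ q).map (a n) := by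
  have hcomp : ∀ n, a (n + 1) ≫ t n = a n := fun n => by
    obtain ⟨c, hT⟩ := hL
    have h : Pi.lift a ≫ diffMap K t = 0 := Pretriangulated.comp_distTriang_mor_zero₁₂ _ hT
    have := congrArg (fun p => p ≫ Pi.π K n) h
    simp only [Category.assoc, Pi.lift_π, Preadditive.comp_sub, zero_comp] at this
    rw [← Category.assoc, Pi.lift_π, sub_eq_zero] at this
    exact this.symm
  let c := seqCone (fun n => CohCx.HD (K n) q) (fun n => (DerivedCategory.homologyFunctor _ q).map (t n))
    (fun n => (DerivedCategory.homologyFunctor _ q).map (a n)) (fun n => by rw [← Functor.map_comp, hcomp])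
  refine ⟨limit.lift _ c, ?_, fun n => limit.lift_π c _⟩
  exact isIso_homology_to_limit.{w, u} (freeTestSys J) hB K t a q
    (fun n V hV => acyc_of_HU (K n) (fun p q => h1 V hV p q n))
    (fun V hV v => hlim_of_sections (fun n => CohCx.HD (K n) (q - 1)) _ V (h2 V hV) v) hL _
    (fun n => limit.lift_π c _)

end Groth.Agent.SiteRlim
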