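import Groth.Agent.SiteRlim.RlimSheaf

/-! # Systems of acyclic sheaves without `R¹lim` -/

set_option autoImplicit false
set_option linter.all false
set_option backward.isDefEq.respectTransparency false
set_option backward.defeqAttrib.useBackward true

universe w u

open CategoryTheory CategoryTheory.Limits CategoryTheory.Abelian Opposite DerivedCategory

namespace Groth.Agent.SiteRlim

variable {C : Type u} [SmallCategory C] {J : GrothendieckTopology C}
  [HasDerivedCategory.{w} (Sheaf J AddCommGrpCat.{u})]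

theorem single_rlim (F : ℕ → Sheaf J AddCommGrpCat.{u}) (t : ∀ n, F (n + 1) ⟶ F n)
    [HasProduct fun n => (singleFunctor (Sheaf J AddCommGrpCat.{u}) 0).obj (F n)] (B : Set C)
    (hB : ∀ U : C, ∃ (ι : Type u) (Y : ι → C) (f : ∀ i, Y i ⟶ U), Sieve.ofArrows Y f ∈ J U ∧ ∀ i, Y i ∈ B)
    (h1 : ∀ U ∈ B, ∀ (p n : ℕ), Subsingleton (CohSite.HU (F n) (p + 1) U))
    (h2 : ∀ U ∈ B, CohCx.LimOneIsZero (fun n => (F n).obj.obj (op U)) (fun n => ((t n).hom.app (op U)).hom)) :
    DCoh.IsRlim (fun n => (singleFunctor _ 0).obj (F n)) (fun n => (singleFunctor _ 0).map (t n))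
      ((singleFunctor _ 0).obj (limit (CohCx.opSequence F t))) ∧
    ∀ U ∈ B, ∀ p : ℕ, Subsingleton (CohSite.HU (limit (CohCx.opSequence F t)) (p + 1) U) := by
  let T := freeTestSys J
  let K : ℕ → DerivedCategory (Sheaf J AddCommGrpCat.{u}) := fun n => (singleFunctor _ 0).obj (F n)
  let t' : ∀ n, K (n + 1) ⟶ K n := fun n => (singleFunctor _ 0).map (t n)
  haveI : HasProduct K := inferInstanceAs (HasProduct fun n => (singleFunctor (Sheaf J AddCommGrpCat.{u}) 0).obj (F n))
  have hac : ∀ n, ∀ V ∈ B, Acyc.{w, u} T V (K n) := fun n V hV q k => by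
    by_cases hq : q = 0
    · subst hq
      exact subsingleton_ext_of_iso (DerCat.homologySingleIso 0 (F n)).symm _ (h1 V hV k n)
    · exact subsingleton_ext_of_isZero (DerCat.isZero_homology_single 0 q hq (F n)) _
  have hlim : ∀ q : ℤ, ∀ V ∈ B, ∀ v : ∀ n, T.P.obj V ⟶ (homologyFunctor _ q).obj (K n),
      ∃ z : ∀ n, T.P.obj V ⟶ (homologyFunctor _ q).obj (K n),
        ∀ n, z n - z (n + 1) ≫ (homologyFunctor _ q).map (t' n) = v n := by
    intro q V hV v
    by_cases hq : q = 0
    · subst hq
      let e := fun n => DerCat.homologySingleIso 0 (F n)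
      obtain ⟨z, hz⟩ := hlim_of_sections F t V (h2 V hV) (fun n => v n ≫ (e n).hom)
      refine ⟨fun n => z n ≫ (e n).inv, fun n => ?_⟩
      rw [← cancel_mono (e n).hom, ← hz n, Preadditive.sub_comp, Category.assoc, Category.assoc, Iso.inv_hom_id,
        Category.comp_id]
      congr 1
      rw [Category.assoc]
      congr 1
      rw [Iso.inv_comp_eq]
      exact (singleFunctorCompHomologyFunctorIso _ 0).hom.naturality (t n)
    · exact ⟨fun _ => 0, fun n => (DerCat.isZero_homology_single 0 q hq (F n)).eq_of_tgt _ _⟩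
  obtain ⟨L, a, hL⟩ := exists_isRlimVia K t'
  have hcomp : ∀ n, a (n + 1) ≫ t' n = a n := fun n => by
    obtain ⟨c, hT⟩ := hL
    have h : Pi.lift a ≫ diffMap K t' = 0 := Pretriangulated.comp_distTriang_mor_zero₁₂ _ hT
    have := congrArg (fun p => p ≫ Pi.π K n) h
    simp only [Category.assoc, Pi.lift_π, Preadditive.comp_sub, zero_comp] at this
    rw [← Category.assoc, Pi.lift_π, sub_eq_zero] at this
    exact this.symm
  have hHD : ∀ q, Nonempty ((homologyFunctor _ q).obj L ≅
      limit (CohCx.opSequence (fun n => (homologyFunctor _ q).obj (K n)) (fun n => (homologyFunctor _ q).map (t' n)))) := by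
    intro q
    let c := seqCone (fun n => (homologyFunctor _ q).obj (K n)) (fun n => (homologyFunctor _ q).map (t' n))
      (fun n => (homologyFunctor _ q).map (a n)) (fun n => by rw [← Functor.map_comp, hcomp])
    haveI := isIso_homology_to_limit.{w, u} T hB K t' a q hac (hlim (q - 1)) hL (limit.lift _ c)
      (fun n => limit.lift_π c _)
    exact ⟨asIso (limit.lift _ c)⟩
  have hz : ∀ q, q ≠ 0 → IsZero ((homologyFunctor _ q).obj L) := fun q hq => by
    refine IsZero.of_iso ?_ (hHD q).some
    rw [IsZero.iff_id_eq_zero]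
    exact limit.hom_ext fun ⟨n⟩ => (DerCat.isZero_homology_single 0 q hq (F n)).eq_of_tgt _ _
  haveI : L.IsGE 0 := (DerivedCategory.isGE_iff _ _).2 fun q hq => hz q (by omega)
  haveI : L.IsLE 0 := (DerivedCategory.isLE_iff _ _).2 fun q hq => hz q (by omega)
  obtain ⟨eL⟩ := DerCat.exists_iso_single_homology L 0
  let φ : CohCx.opSequence (fun n => (homologyFunctor _ 0).obj (K n)) (fun n => (homologyFunctor _ 0).map (t' n)) ≅
      CohCx.opSequence F t :=
    NatIso.ofComponents (fun n => DerCat.homologySingleIso 0 (F n.unop))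
      (fun {x y} f => by
        let ψ : CohCx.opSequence (fun n => (homologyFunctor _ 0).obj (K n)) (fun n => (homologyFunctor _ 0).map (t' n)) ⟶
            CohCx.opSequence F t :=
          NatTrans.ofOpSequence (fun n => (DerCat.homologySingleIso 0 (F n)).hom) (fun n => by
            rw [Functor.ofOpSequence_map_homOfLE_succ, Functor.ofOpSequence_map_homOfLE_succ]
            exact (singleFunctorCompHomologyFunctorIso _ 0).hom.naturality (t n))
        exact ψ.naturality f)
  let e : L ≅ (singleFunctor _ 0).obj (limit (CohCx.opSequence F t)) :=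
    eL ≪≫ (singleFunctor _ 0).mapIso ((hHD 0).some ≪≫ HasLimit.isoOfNatIso φ)
  refine ⟨?_, fun U hU p => ⟨fun x y => ?_⟩⟩
  · obtain ⟨c, hT⟩ := isRlimVia_of_isIso K t' a hL (fun n => e.inv ≫ a n) e.inv (fun n => rfl)
    exact ⟨_, c, hT⟩
  · have key : ∀ ψ : T.S.obj U ⟶ L⟦((p + 1 : ℕ) : ℤ)⟧, ψ = 0 := fun ψ =>
      eq_zero_of_components.{w, u} T hB K t' a _ hac (hlim _) hL hU ψ fun n => by
        apply (cl_bijective.{w, u} T hB ((K n)⟦((p + 1 : ℕ) : ℤ)⟧) (fun W hW => (hac n W hW).shift _) hU).1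
        exact ((DerCat.isZero_homology_single 0 ((p + 1 : ℕ) : ℤ) (by omega) (F n)).of_iso
          (((homologyFunctor _ 0).shiftIso ((p + 1 : ℕ) : ℤ) 0 _ (by omega)).app (K n))).eq_of_tgt _ _
    apply Ext.homEquiv.injective
    rw [← cancel_mono ((shiftFunctor _ ((p + 1 : ℕ) : ℤ)).map e.inv)]
    exact (key _).trans (key _).symm

end Groth.Agent.SiteRlim
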