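import Groth.Agent.SiteRlim.FreeTest
import Groth.Agent.SiteRlim.MilnorSeq

/-! # Injectivity for cohomology sheaves of derived limits -/

set_option autoImplicit false
set_option linter.all false
set_option backward.isDefEq.respectTransparency false
set_option backward.defeqAttrib.useBackward true

universe w u

open CategoryTheory CategoryTheory.Limits CategoryTheory.Abelian Opposite DerivedCategory

namespace Groth.Agent.SiteRlim

variable {C : Type u} [SmallCategory C] {J : GrothendieckTopology C}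
  [HasDerivedCategory.{w} (Sheaf J AddCommGrpCat.{u})]

theorem injective_rlim (K : ℕ → DerivedCategory (Sheaf J AddCommGrpCat.{u})) (t : ∀ n, K (n + 1) ⟶ K n)
    [HasProduct K] (L : DerivedCategory (Sheaf J AddCommGrpCat.{u})) (a : ∀ n, L ⟶ K n)
    (hL : CohCx.IsRlimVia K t L a) (V : C) (m : ℤ) (nV : ℕ)
    (h : ∀ T ∈ J V, ∃ (ι : Type u) (Y : ι → C) (f : ∀ i, Y i ⟶ V), (∀ i, T.arrows (f i)) ∧
      Sieve.ofArrows Y f ∈ J V ∧ ∀ i,
        CohCx.LimOneIsZero (fun n => CohCx.HDU (K n) (m - 1) (Y i))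
          (fun n => Preadditive.rightComp _ ((shiftFunctor _ (m - 1)).map (t n))) ∧
        ∀ k : ℕ, Function.Injective
          (Preadditive.rightComp _ ((shiftFunctor _ m).map (CohCx.transition K t nV k)) :
            CohCx.HDU (K (nV + k)) m (Y i) → CohCx.HDU (K nV) m (Y i))) :
    Function.Injective (((DerivedCategory.homologyFunctor _ m).map (a nV)).hom.app (op V)) := by
  let T := freeTestSys J
  have hcomp : ∀ n, a (n + 1) ≫ t n = a n := fun n => by
    obtain ⟨c, hT⟩ := hL
    have h : Pi.lift a ≫ diffMap K t = 0 := Pretriangulated.comp_distTriang_mor_zero₁₂ _ hT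
    have := congrArg (fun p => p ≫ Pi.π K n) h
    simp only [Category.assoc, Pi.lift_π, Preadditive.comp_sub, zero_comp] at this
    rw [← Category.assoc, Pi.lift_π, sub_eq_zero] at this
    exact this.symm
  have htr : ∀ k, a (nV + k) ≫ CohCx.transition K t nV k = a nV := by
    intro k
    induction k with
    | zero => exact Category.comp_id _
    | succ k ih =>
      show a (nV + k + 1) ≫ t (nV + k) ≫ CohCx.transition K t nV k = a nV
      rw [← Category.assoc, hcomp, ih]
  let ε : shiftFunctor (DerivedCategory (Sheaf J AddCommGrpCat.{u})) m ⋙ homologyFunctor _ 0 ≅ homologyFunctor _ m :=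
    (homologyFunctor _ 0).shiftIso m 0 m (by omega)
  rw [injective_iff_map_eq_zero]
  intro x hx
  let s : T.P.obj V ⟶ (homologyFunctor _ 0).obj (L⟦m⟧) := (secAdd V _).symm x ≫ ε.inv.app L
  have hs : s ≫ (homologyFunctor _ 0).map ((a nV)⟦m⟧') = 0 := by
    show (_ ≫ ε.inv.app L) ≫ _ = 0
    rw [Category.assoc]
    have := ε.inv.naturality (a nV)
    simp only [Functor.comp_map] at this
    rw [← this, ← Category.assoc]
    have h0 : (secAdd V (CohCx.HD L m)).symm x ≫ (homologyFunctor _ m).map (a nV) = 0 := by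
      apply (secAdd V _).injective
      rw [map_zero]
      refine (CohAcyc.secEquiv'_comp V _ _).trans ?_
      exact (congrArg _ ((secAdd V _).apply_symm_apply x)).trans hx
    rw [h0, zero_comp]
  suffices h0 : s = 0 by
    have : (secAdd V (CohCx.HD L m)).symm x = 0 := by
      rw [← cancel_mono (ε.inv.app L), zero_comp]; exact h0
    rw [← (secAdd V (CohCx.HD L m)).apply_symm_apply x, this, map_zero]
  let S₁ : Sieve V :=
    { arrows := fun W g => ∃ φ : T.S.obj W ⟶ L⟦m⟧, T.cl φ = T.P.map g ≫ s ∧ φ ≫ (a nV)⟦m⟧' = 0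
      downward_closed := fun {W W'} g hg b => by
        obtain ⟨φ, h1, h2⟩ := hg
        exact ⟨T.S.map b ≫ φ, by rw [T.cl_map, h1, T.P.map_comp, Category.assoc],
          by rw [Category.assoc, h2, comp_zero]⟩ }
  have hS₁ : S₁ ∈ J V := by
    obtain ⟨S, hS, hl⟩ := T.local_surj s
    refine J.transitive hS _ fun W g hg => ?_
    obtain ⟨φ, hφ⟩ := hl g hg
    obtain ⟨S', hS', hz⟩ := T.local_zero (φ ≫ (a nV)⟦m⟧') (by
      rw [T.cl_comp, hφ, Category.assoc, hs, comp_zero])
    refine J.superset_covering (fun W' b hb => ⟨T.S.map b ≫ φ, ?_, ?_⟩) hS'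
    · rw [T.cl_map, hφ, T.P.map_comp, Category.assoc]
    · rw [Category.assoc]; exact hz b hb
  obtain ⟨ι, Y, f, hf, hcov, hY⟩ := h S₁ hS₁
  refine T.sep_ofArrows s Y f hcov fun i => ?_
  obtain ⟨φ, h1, h2⟩ := hf i
  obtain ⟨hlim, hinj⟩ := hY i
  have hge : ∀ k, φ ≫ (a (nV + k))⟦m⟧' = 0 := fun k => by
    apply hinj k
    show (φ ≫ _) ≫ _ = (0 : T.S.obj (Y i) ⟶ _) ≫ _
    rw [Category.assoc, ← Functor.map_comp, htr, h2, zero_comp]
  have hle : ∀ j k, φ ≫ (a (k + j))⟦m⟧' = 0 → φ ≫ (a k)⟦m⟧' = 0 := by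
    intro j
    induction j with
    | zero => exact fun k h => h
    | succ j ih =>
      intro k hk
      apply ih
      rw [← hcomp (k + j), Functor.map_comp, ← Category.assoc]
      exact (congrArg (· ≫ _) hk).trans zero_comp
  rw [← h1, eq_zero_of_limOne K t a hL (T.S.obj (Y i)) m (fun v => ?_) φ
    (fun k => hle nV k (by rw [Nat.add_comm]; exact hge k)), T.cl_zero]
  obtain ⟨z, hz⟩ := hlim v
  exact ⟨z, fun n => congrFun hz n⟩

end Groth.Agent.SiteRlim
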