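import Groth.Agent.SiteRlim.Criteria

/-! # The truncation tower under local cohomological dimension bounds -/

set_option autoImplicit false
set_option linter.all false
set_option backward.isDefEq.respectTransparency false
set_option backward.defeqAttrib.useBackward true

universe w w' u v₁ u₁

open CategoryTheory Limits Pretriangulated DerivedCategory CategoryTheory.Abelian

namespace Groth.Agent.SiteRlim

variable {C : Type u₁} [Category.{v₁} C] {J : GrothendieckTopology C}
  {A : Type (u + 1)} [Category.{u} A] [Abelian A] [HasDerivedCategory.{w} A] (T : TestSys J A)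
  {B : Set C} (hB : ∀ U : C, ∃ (ι : Type*) (Y : ι → C) (g : ∀ i, Y i ⟶ U),
  Sieve.ofArrows Y g ∈ J U ∧ ∀ i, Y i ∈ B)


variable (E : DerivedCategory A)

omit T

lemma toTruncTower_comp (n : ℕ) :
    CohCx.toTruncTower E (n + 1) ≫ CohCx.truncTowerMap E n = CohCx.toTruncTower E n :=
  TStructure.t.π_natTransTruncGEOfLE_app _ _ (by omega) E

lemma isIso_homology_toTruncTower (n : ℕ) (i : ℤ) (h : -(n : ℤ) ≤ i) :
    IsIso ((homologyFunctor A i).map (CohCx.toTruncTower E n)) := by
  let t := TStructure.t (C := A)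
  have hT := t.triangleLTGE_distinguished (-(n : ℤ)) E
  have : ((t.truncLT (-(n : ℤ))).obj E).IsLE (-(n : ℤ) - 1) :=
    t.isLE_truncLT_obj E (-(n : ℤ)) (-(n : ℤ) - 1) (by omega)
  have z₁ : IsZero ((homologyFunctor A i).obj ((t.truncLT (-(n : ℤ))).obj E)) :=
    isZero_of_isLE _ (-(n : ℤ) - 1) _ (by omega)
  have z₂ : IsZero ((homologyFunctor A (i + 1)).obj ((t.truncLT (-(n : ℤ))).obj E)) :=
    isZero_of_isLE _ (-(n : ℤ) - 1) _ (by omega)
  have : Mono ((homologyFunctor A i).map ((t.truncGEπ (-(n : ℤ))).app E)) :=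
    (HomologySequence.mono_homologyMap_mor₂_iff _ hT i).2 (z₁.eq_of_src _ _)
  have : Epi ((homologyFunctor A i).map ((t.truncGEπ (-(n : ℤ))).app E)) :=
    (HomologySequence.epi_homologyMap_mor₂_iff _ hT i (i + 1) rfl).2 (z₂.eq_of_tgt _ _)
  exact isIso_of_mono_of_epi ((homologyFunctor A i).map ((t.truncGEπ (-(n : ℤ))).app E))

lemma isIso_homology_truncTowerMap (n : ℕ) (i : ℤ) (h : -(n : ℤ) ≤ i) :
    IsIso ((homologyFunctor A i).map (CohCx.truncTowerMap E n)) := by
  haveI := isIso_homology_toTruncTower E n i h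
  haveI := isIso_homology_toTruncTower E (n + 1) i (by omega)
  have := congrArg (homologyFunctor A i).map (toTruncTower_comp E n)
  rw [Functor.map_comp] at this
  exact IsIso.of_isIso_fac_left this

include hB T

/-- the truncation tower computes -/
theorem isRlimVia_truncTower [HasExt.{w'} A] [HasProduct (CohCx.truncTower E)]
    (hd : ∀ V ∈ B, ∃ p : ℤ → ℤ, ∀ R ∈ J V, ∃ (ι : Type u₁) (Y : ι → C) (g : ∀ j, Y j ⟶ V),
      (∀ j, R.arrows (g j)) ∧ Sieve.ofArrows Y g ∈ J V ∧
      ∀ (j : ι) (m : ℤ) (k : ℕ), p m < k → m - k < 0 →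
        Subsingleton (Ext.{w'} (T.P.obj (Y j)) ((homologyFunctor A (m - k)).obj E) k)) :
    CohCx.IsRlimVia (CohCx.truncTower E) (CohCx.truncTowerMap E) E (CohCx.toTruncTower E) := by
  obtain ⟨L, a, hL⟩ := exists_isRlimVia (CohCx.truncTower E) (CohCx.truncTowerMap E)
  obtain ⟨e, he⟩ := exists_lift_isRlimVia _ _ a hL (CohCx.toTruncTower E) (toTruncTower_comp E)
  have : IsIso e := by
    rw [DerivedCategory.isIso_iff]
    intro i
    let n₀ := (-i).toNat
    have := isIso_homology_rlim_of_cones T hB (CohCx.truncTower E) (CohCx.truncTowerMap E)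
      (fun n => ⟨-(n : ℤ), inferInstance⟩) L a hL i n₀
      (fun n hn => isIso_homology_truncTowerMap E n i (by omega)) (fun V hV => by
        obtain ⟨p, hp⟩ := hd V hV
        refine ⟨(max (p i) (p (i + 1)) - i + 2).toNat + (2 - i).toNat, fun R hR => ?_⟩
        obtain ⟨ι, Y, g, h₁, h₂, h₃⟩ := hp R hR
        refine ⟨ι, Y, g, h₁, h₂, fun j l hl X f h hT m q hm₁ hm₂ hq => ?_⟩
        by_cases hq₁ : q = -(l : ℤ) - 2
        · refine Or.inr fun k hk => ?_
          have z : ∀ q' : ℤ, q' < -(l : ℤ) → IsZero ((homologyFunctor A q').obj (CohCx.truncTower E l)) :=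
            fun q' hq' => isZero_of_isGE _ (-(l : ℤ)) q' hq'
          haveI : Mono ((homologyFunctor A q).map f ≫ 𝟙 _) := ⟨fun _ _ _ => (z q (by omega)).eq_of_tgt _ _⟩
          haveI : Mono (HomologySequence.δ (Triangle.mk (CohCx.truncTowerMap E l) f h) q (q + 1) rfl) :=
            (HomologySequence.exact₃ _ hT q (q + 1) rfl).mono_g ((z q (by omega)).eq_of_src _ _)
          haveI : Epi (HomologySequence.δ (Triangle.mk (CohCx.truncTowerMap E l) f h) q (q + 1) rfl) :=
            (HomologySequence.exact₁ _ hT q (q + 1) rfl).epi_f ((z (q + 1) (by omega)).eq_of_tgt _ _)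
          haveI := isIso_of_mono_of_epi (HomologySequence.δ (Triangle.mk (CohCx.truncTowerMap E l) f h) q (q + 1) rfl)
          haveI := isIso_homology_toTruncTower E (l + 1) (q + 1) (by omega)
          let φ : (homologyFunctor A q).obj X ≅ (homologyFunctor A (q + 1)).obj E :=
            asIso (HomologySequence.δ (Triangle.mk (CohCx.truncTowerMap E l) f h) q (q + 1) rfl) ≪≫
              (asIso ((homologyFunctor A (q + 1)).map (CohCx.toTruncTower E (l + 1)))).symm
          have hm : p (m + 1) < (k : ℤ) := by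
            obtain rfl | rfl : m = i ∨ m = i - 1 := by omega
            · omega
            · rw [show i - 1 + 1 = i by omega]; omega
          have h := h₃ j (m + 1) k hm (by omega)
          rw [show m + 1 - (k : ℤ) = q + 1 by omega] at h
          refine ⟨fun x y => ?_⟩
          have e := congrArg (fun z : Ext.{w'} (T.P.obj (Y j)) ((homologyFunctor A (q + 1)).obj E) k =>
            z.comp (Ext.mk₀ φ.inv) (add_zero k))
            (Subsingleton.elim (h := h) (x.comp (Ext.mk₀ φ.hom) (add_zero k)) (y.comp (Ext.mk₀ φ.hom) (add_zero k)))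
          simpa using e
        · refine Or.inl ?_
          by_cases hq₂ : -(l : ℤ) ≤ q
          · exact isZero_homology_cone_of_isIso _ f h hT q (isIso_homology_truncTowerMap E l q hq₂)
              (isIso_homology_truncTowerMap E l (q + 1) (by omega))
          · refine isZero_homology_cone _ f h hT q ⟨fun _ _ _ => (isZero_of_isGE _ (-(l : ℤ)) q (by omega)).eq_of_src _ _⟩ ?_
            by_cases hq₃ : q = -(l : ℤ) - 1
            · haveI := isIso_homology_truncTowerMap E l (q + 1) (by omega)
              infer_instance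
            · exact ⟨fun _ _ _ => (isZero_of_isGE _ (-((l + 1 : ℕ) : ℤ)) (q + 1) (by omega)).eq_of_tgt _ _⟩)
      n₀ le_rfl
    haveI := isIso_homology_toTruncTower E n₀ i (by omega)
    have h := congrArg (homologyFunctor A i).map (he n₀)
    rw [Functor.map_comp] at h
    exact IsIso.of_isIso_fac_right h
  exact isRlimVia_of_isIso _ _ a hL _ e he

end Groth.Agent.SiteRlim
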