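import Groth.Agent.SiteRlim.Transfer
import Groth.Agent.SiteDer.Adjoint
import Mathlib.CategoryTheory.Limits.Preserves.Shapes.Products

/-! # Equivalences of derived categories with cohomology in subcategories of bounded dimension -/

set_option autoImplicit false
set_option linter.all false
set_option backward.isDefEq.respectTransparency false
set_option backward.defeqAttrib.useBackward true

universe w w' u v₁ u₁

open CategoryTheory Limits Pretriangulated DerivedCategory CategoryTheory.Abelian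

namespace Groth.Agent.SiteRlim

/-- a triangulated functor preserving products preserves derived limits -/
theorem isRlimVia_map {T₁ T₂ : Type*} [Category* T₁] [Category* T₂] [Preadditive T₁] [Preadditive T₂]
    [HasZeroObject T₁] [HasZeroObject T₂] [HasShift T₁ ℤ] [HasShift T₂ ℤ]
    [∀ n : ℤ, (shiftFunctor T₁ n).Additive] [∀ n : ℤ, (shiftFunctor T₂ n).Additive]
    [Pretriangulated T₁] [Pretriangulated T₂] (G : T₁ ⥤ T₂) [G.CommShift ℤ] [G.IsTriangulated]
    (K : ℕ → T₁) (t : ∀ n, K (n + 1) ⟶ K n) [HasProduct K] [HasProduct fun n => G.obj (K n)]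
    [PreservesLimit (Discrete.functor K) G] (L : T₁) (a : ∀ n, L ⟶ K n) (h : CohCx.IsRlimVia K t L a) :
    CohCx.IsRlimVia (fun n => G.obj (K n)) (fun n => G.map (t n)) (G.obj L) (fun n => G.map (a n)) := by
  obtain ⟨c, hc⟩ := h
  let e := PreservesProduct.iso G K
  have he : ∀ n, e.hom ≫ Pi.π (fun n => G.obj (K n)) n = G.map (Pi.π K n) := fun n => by simp [e]
  refine ⟨e.inv ≫ G.map c ≫ (G.commShiftIso (1 : ℤ)).hom.app L, isomorphic_distinguished _
    (G.map_distinguished _ hc) _ (Triangle.isoMk _ _ (Iso.refl _) e.symm e.symm ?_ ?_ ?_)⟩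
  · show (Pi.lift fun n => G.map (a n)) ≫ e.inv = 𝟙 _ ≫ G.map (Pi.lift a)
    rw [Iso.comp_inv_eq, Category.id_comp]
    refine Pi.hom_ext _ _ fun n => ?_
    rw [Category.assoc, he, ← G.map_comp, Pi.lift_π, Pi.lift_π]
  · show (Pi.lift fun n => Pi.π (fun n => G.obj (K n)) n - Pi.π (fun n => G.obj (K n)) (n + 1) ≫ G.map (t n)) ≫
      e.inv = e.inv ≫ G.map (Pi.lift fun n => Pi.π K n - Pi.π K (n + 1) ≫ t n)
    rw [Iso.comp_inv_eq, Category.assoc, Iso.eq_inv_comp]
    refine Pi.hom_ext _ _ fun n => ?_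
    simp only [Category.assoc, Pi.lift_π, he, Preadditive.comp_sub]
    rw [← G.map_comp, Pi.lift_π, G.map_sub, G.map_comp, ← Category.assoc e.hom, he]
  · show (e.inv ≫ G.map c ≫ (G.commShiftIso (1 : ℤ)).hom.app L) ≫ (𝟙 (G.obj L))⟦(1 : ℤ)⟧' =
      e.inv ≫ G.map c ≫ (G.commShiftIso (1 : ℤ)).hom.app L
    rw [CategoryTheory.Functor.map_id]
    exact Category.comp_id _

variable {A : Type (u + 1)} [Category.{u} A] [Abelian A] [HasDerivedCategory.{w} A] [IsGrothendieckAbelian.{u} A]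
  [HasExt.{w'} A]
  {C : Type u₁} [Category.{v₁} C] {J : GrothendieckTopology C} (T : TestSys J A)
  {D : Type u₁} [Category.{v₁} D] {K : GrothendieckTopology D}
  {A' : Type (u + 1)} [Category.{u} A'] [Abelian A'] [HasDerivedCategory.{w} A'] [IsGrothendieckAbelian.{u} A']
  (T' : TestSys K A')
  (u₀ : D → C) {L : A' ⥤ A} [L.Additive] [PreservesFiniteLimits L] [PreservesFiniteColimits L]
  {G : DerivedCategory A ⥤ DerivedCategory A'} (adj : L.mapDerivedCategory ⊣ G)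
  (hpull : ∀ W, Nonempty (L.obj (T'.P.obj W) ≅ T.P.obj (u₀ W)))
  (P : ObjectProperty A) [WSerre.IsWeakSerre P] (P' : ObjectProperty A') [WSerre.IsWeakSerre P']
  (h2a : ∀ M, P' M → P (L.obj M))
  (h2b : ∀ M N, P' M → P' N → Function.Bijective (fun φ : M ⟶ N => L.map φ))
  (h2c : ∀ N, P N → ∃ M, P' M ∧ Nonempty (L.obj M ≅ N))
  (h3 : ∀ M, P' M → IsIso (adj.unit.app ((singleFunctor A' 0).obj M)))
  {B : Set C} (hB : ∀ U : C, ∃ (ι : Type u₁) (Y : ι → C) (g : ∀ i, Y i ⟶ U),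
    Sieve.ofArrows Y g ∈ J U ∧ ∀ i, Y i ∈ B)
  (hd : ∀ V ∈ B, ∃ d : ℕ, ∀ S ∈ J V, ∃ (ι : Type u₁) (Y : ι → C) (g : ∀ i, Y i ⟶ V),
    (∀ i, S.arrows (g i)) ∧ Sieve.ofArrows Y g ∈ J V ∧
    ∀ (i : ι) (M : A), P M → ∀ k : ℕ, d < k → Subsingleton (Ext.{w'} (T.P.obj (Y i)) M k))
  {B' : Set D} (hB' : ∀ U : D, ∃ (ι : Type u₁) (Y : ι → D) (g : ∀ i, Y i ⟶ U),
    Sieve.ofArrows Y g ∈ K U ∧ ∀ i, Y i ∈ B')

include h2b in
omit [WSerre.IsWeakSerre P'] [HasDerivedCategory.{w} A] [HasDerivedCategory.{w} A'] [IsGrothendieckAbelian.{u} A]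
  [IsGrothendieckAbelian.{u} A'] [HasExt.{w'} A] [PreservesFiniteLimits L] [PreservesFiniteColimits L] in
lemma isIso_of_isIso_map {M N : A'} (hM : P' M) (hN : P' N) (f : M ⟶ N) (h : IsIso (L.map f)) : IsIso f := by
  obtain ⟨g, hg⟩ := (h2b N M hN hM).2 (inv (L.map f))
  exact ⟨g, (h2b M M hM hM).1 (by simp only [L.map_comp, L.map_id, show L.map g = _ from hg, IsIso.hom_inv_id]),
    (h2b N N hN hN).1 (by simp only [L.map_comp, L.map_id, show L.map g = _ from hg, IsIso.inv_hom_id])⟩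

include h2c h3 in
/-- `RR` of an object in one degree -/
theorem exists_iso_single (F : A) (hF : P F) (q : ℤ) :
    ∃ M, P' M ∧ Nonempty (G.obj ((singleFunctor A q).obj F) ≅ (singleFunctor A' q).obj M) := by
  letI := adj.rightAdjointCommShift ℤ
  obtain ⟨M, hM, ⟨e⟩⟩ := h2c F hF
  haveI := h3 M hM
  let es : L.mapDerivedCategory.obj ((singleFunctor A' 0).obj M) ≅ (singleFunctor A 0).obj F :=
    (L.mapDerivedCategorySingleFunctor 0).app M ≪≫ (singleFunctor A 0).mapIso e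
  exact ⟨M, hM, ⟨G.mapIso (DerCat.singleShiftIso q F).symm ≪≫ (G.commShiftIso (-q)).app _ ≪≫
    (shiftFunctor _ (-q)).mapIso ((G.mapIso es.symm) ≪≫ (asIso (adj.unit.app ((singleFunctor A' 0).obj M))).symm) ≪≫
    DerCat.singleShiftIso q M⟩⟩

include h2b in
omit [WSerre.IsWeakSerre P'] [IsGrothendieckAbelian.{u} A] [IsGrothendieckAbelian.{u} A'] [HasExt.{w'} A] in
lemma isIso_homology_of_pull {Y' Y : DerivedCategory A'} (f : Y' ⟶ Y) (j : ℤ)
    (h₁ : P' ((homologyFunctor A' j).obj Y')) (h₂ : P' ((homologyFunctor A' j).obj Y))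
    (h : IsIso ((homologyFunctor A j).map (L.mapDerivedCategory.map f))) :
    IsIso ((homologyFunctor A' j).map f) :=
  isIso_of_isIso_map P' h2b h₁ h₂ _ ((NatIso.isIso_map_iff (mapDerivedHomologyIso L j) f).1 h)

include hpull adj in
theorem exists_testEquiv_of_adj (W : D) (m : ℤ) :
    ∃ ε : testObj T' W m ⟶ G.obj (testObj T (u₀ W) m),
      ∀ Z, Function.Bijective (fun ψ : testObj T (u₀ W) m ⟶ Z => ε ≫ G.map ψ) := by
  let e₀ : L.mapDerivedCategory.obj ((singleFunctor A' 0).obj (T'.P.obj W)) ≅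
      (singleFunctor A 0).obj (T.P.obj (u₀ W)) :=
    (L.mapDerivedCategorySingleFunctor 0).app _ ≪≫ (singleFunctor A 0).mapIso (hpull W).some
  let e : L.mapDerivedCategory.obj (testObj T' W m) ≅ testObj T (u₀ W) m :=
    (L.mapDerivedCategory.commShiftIso (-m)).app _ ≪≫ (shiftFunctor _ (-m)).mapIso e₀
  refine ⟨adj.homEquiv _ _ e.hom, fun Z => ?_⟩
  convert (adj.homEquiv _ Z).bijective.comp (Iso.homFromEquiv e.symm).bijective using 1
  funext ψ
  rw [Function.comp_apply, ← adj.homEquiv_naturality_right]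
  rfl

variable (X : DerivedCategory A) (hX : WSerre.cohIn P X)

include h2a h2b h2c h3 hB hd hB' hX

/-- `Rf_*` on `D_P` -/
theorem cohIn_and_isIso_counit
    (hb : ∀ V ∈ B', ∀ i : ℤ, ∃ N₀ : ℕ, ∀ S ∈ K V, ∃ (ι : Type u₁) (Y : ι → D) (g : ∀ k, Y k ⟶ V),
      (∀ k, S.arrows (g k)) ∧ Sieve.ofArrows Y g ∈ K V ∧ ∀ k l, N₀ ≤ l →
        Function.Bijective (fun φ : testObj T' (Y k) i ⟶ G.obj (CohCx.truncTower X (l + 1)) =>
          φ ≫ G.map (CohCx.truncTowerMap X l)) ∧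
        Function.Surjective (fun φ : testObj T' (Y k) (i - 1) ⟶ G.obj (CohCx.truncTower X (l + 1)) =>
          φ ≫ G.map (CohCx.truncTowerMap X l))) :
    WSerre.cohIn P' (G.obj X) ∧ IsIso (adj.counit.app X) := by
  letI := adj.rightAdjointCommShift ℤ
  haveI := adj.commShift_of_leftAdjoint ℤ
  haveI := adj.isTriangulated_rightAdjoint
  haveI : PreservesLimitsOfSize.{0, 0} G := adj.rightAdjoint_preservesLimits
  haveI := hasProduct_nat (CohCx.truncTower X)
  haveI := hasProduct_nat (fun n => G.obj (CohCx.truncTower X n))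
  have hL : CohCx.IsRlimVia (CohCx.truncTower X) (CohCx.truncTowerMap X) X (CohCx.toTruncTower X) := by
    refine isRlimVia_truncTower T hB X fun V hV => ?_
    obtain ⟨d, hd⟩ := hd V hV
    refine ⟨fun _ => (d : ℤ), fun S hS => ?_⟩
    obtain ⟨ι, Y, g, h₁, h₂, h₃⟩ := hd S hS
    exact ⟨ι, Y, g, h₁, h₂, fun i m k hk _ => h₃ i _ (hX (m - k)) k (by simpa using hk)⟩
  have hK : ∀ n, WSerre.cohIn P' (G.obj (CohCx.truncTower X n)) ∧ IsIso (adj.counit.app (CohCx.truncTower X n)) :=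
    fun n => ⟨SiteDer.cohIn_rightAdjoint adj P' P h2c h3 _ (-(n : ℤ)) (cohIn_truncTower P X hX n),
      SiteDer.isIso_counit_of_isGE adj P (fun N hN => by
        obtain ⟨M, hM, ⟨e⟩⟩ := h2c N hN
        exact SiteDer.isIso_counit_single adj P' e (h3 M hM)) _ (-(n : ℤ)) (fun i _ => cohIn_truncTower P X hX n i)⟩
  have hconst : ∀ (j : ℤ) (n : ℕ), -(n : ℤ) ≤ j → IsIso ((homologyFunctor A' j).map (G.map (CohCx.truncTowerMap X n))) := by
    intro j n hj
    refine isIso_homology_of_pull P' h2b _ j ((hK (n + 1)).1 j) ((hK n).1 j) ?_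
    haveI := (hK (n + 1)).2
    haveI := (hK n).2
    haveI : IsIso ((homologyFunctor A j).map ((𝟭 (DerivedCategory A)).map (CohCx.truncTowerMap X n))) :=
      isIso_homology_truncTowerMap X n j hj
    have h := congrArg (homologyFunctor A j).map (adj.counit.naturality (CohCx.truncTowerMap X n))
    rw [Functor.map_comp, Functor.map_comp] at h
    exact IsIso.of_isIso_fac_right h
  have hπ : ∀ (j : ℤ) (n : ℕ), -(n : ℤ) ≤ j → IsIso ((homologyFunctor A' j).map (G.map (CohCx.toTruncTower X n))) := fun j n hj =>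
    isIso_homology_rlim T' hB' _ _ _ _ (isRlimVia_map G _ _ _ _ hL) j n (fun l hl => hconst j l (by omega))
      (fun V hV => hb V hV j) n le_rfl
  refine ⟨fun j => ?_, ?_⟩
  · haveI := hπ j (-j).toNat (by omega)
    exact P'.prop_of_iso (asIso ((homologyFunctor A' j).map (G.map (CohCx.toTruncTower X (-j).toNat)))).symm
      ((hK _).1 j)
  · rw [DerivedCategory.isIso_iff]
    intro j
    have hj : -(((-j).toNat : ℕ) : ℤ) ≤ j := by omega
    haveI := (hK (-j).toNat).2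
    haveI := isIso_homology_toTruncTower X _ j hj
    haveI : IsIso ((homologyFunctor A j).map ((G ⋙ L.mapDerivedCategory).map (CohCx.toTruncTower X (-j).toNat))) :=
      (NatIso.isIso_map_iff (mapDerivedHomologyIso L j) _).2 (by haveI := hπ j _ hj; exact inferInstanceAs (IsIso (L.map _)))
    have h := congrArg (homologyFunctor A j).map (adj.counit.naturality (CohCx.toTruncTower X (-j).toNat))
    rw [Functor.map_comp, Functor.map_comp] at h
    haveI : IsIso ((homologyFunctor A j).map (adj.counit.app X) ≫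
        (homologyFunctor A j).map ((𝟭 (DerivedCategory A)).map (CohCx.toTruncTower X (-j).toNat))) := by
      rw [← h]; exact inferInstanceAs (IsIso (_ ≫ _))
    haveI : IsIso ((homologyFunctor A j).map ((𝟭 (DerivedCategory A)).map (CohCx.toTruncTower X (-j).toNat))) :=
      isIso_homology_toTruncTower X _ j hj
    exact IsIso.of_isIso_comp_right _ ((homologyFunctor A j).map ((𝟭 (DerivedCategory A)).map (CohCx.toTruncTower X (-j).toNat)))

/-- vanishing downstairs -/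
theorem hb_downstairs [HasExt.{w'} A']
    (hd' : ∀ V ∈ B', ∃ d : ℕ, ∀ S ∈ K V, ∃ (ι : Type u₁) (Y : ι → D) (g : ∀ i, Y i ⟶ V),
      (∀ i, S.arrows (g i)) ∧ Sieve.ofArrows Y g ∈ K V ∧
      ∀ (i : ι) (M : A'), P' M → ∀ k : ℕ, d < k → Subsingleton (Ext.{w'} (T'.P.obj (Y i)) M k))
    (V : D) (hV : V ∈ B') (i : ℤ) : ∃ N₀ : ℕ, ∀ S ∈ K V, ∃ (ι : Type u₁) (Y : ι → D) (g : ∀ k, Y k ⟶ V),
      (∀ k, S.arrows (g k)) ∧ Sieve.ofArrows Y g ∈ K V ∧ ∀ k l, N₀ ≤ l →
        Function.Bijective (fun φ : testObj T' (Y k) i ⟶ G.obj (CohCx.truncTower X (l + 1)) =>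
          φ ≫ G.map (CohCx.truncTowerMap X l)) ∧
        Function.Surjective (fun φ : testObj T' (Y k) (i - 1) ⟶ G.obj (CohCx.truncTower X (l + 1)) =>
          φ ≫ G.map (CohCx.truncTowerMap X l)) := by
  letI := adj.rightAdjointCommShift ℤ
  haveI := adj.commShift_of_leftAdjoint ℤ
  haveI := adj.isTriangulated_rightAdjoint
  obtain ⟨d, hd'⟩ := hd' V hV
  refine ⟨((d : ℤ) - i + 1).toNat, fun S hS => ?_⟩
  obtain ⟨ι, Y, g, h₁, h₂, h₃⟩ := hd' S hS
  refine ⟨ι, Y, g, h₁, h₂, fun k l hl => ?_⟩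
  obtain ⟨Z, f, h, hT⟩ := distinguished_cocone_triangle (CohCx.truncTowerMap X l)
  obtain ⟨F, hF, ⟨e⟩⟩ := exists_iso_single_cone P X hX l Z f h hT
  obtain ⟨M, hM, ⟨e'⟩⟩ := exists_iso_single adj P P' h2c h3 F hF (-(l : ℤ) - 2)
  have hv : ∀ m, i - 1 ≤ m → ∀ φ : testObj T' (Y k) m ⟶ G.obj Z, φ = 0 := fun m hm φ => by
    rw [← cancel_mono (G.mapIso e ≪≫ e').hom, zero_comp]
    refine hom_eq_zero T' _ m _ (-(l : ℤ) - 2) (fun q hq hqm => ?_) _
    by_cases hq' : q = -(l : ℤ) - 2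
    · subst hq'
      exact Or.inr fun c hc => h₃ k _ (P'.prop_of_iso (DerCat.homologySingleIso _ M).symm hM) c (by omega)
    · exact Or.inl (DerCat.isZero_homology_single _ q hq' M)
  exact bij_surj_of_cone T' (Y k) i _ (G.map f) _ (G.map_distinguished _ hT) (hv i (by omega)) (hv (i - 1) le_rfl)

include hpull in
/-- vanishing upstairs -/
theorem hb_upstairs
    (hd' : ∀ V ∈ B', ∃ d : ℕ, ∀ S ∈ K V, ∃ (ι : Type u₁) (Y : ι → D) (g : ∀ i, Y i ⟶ V),
      (∀ i, S.arrows (g i)) ∧ Sieve.ofArrows Y g ∈ K V ∧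
      ∀ (i : ι) (M : A), P M → ∀ k : ℕ, d < k → Subsingleton (Ext.{w'} (T.P.obj (u₀ (Y i))) M k))
    (V : D) (hV : V ∈ B') (i : ℤ) : ∃ N₀ : ℕ, ∀ S ∈ K V, ∃ (ι : Type u₁) (Y : ι → D) (g : ∀ k, Y k ⟶ V),
      (∀ k, S.arrows (g k)) ∧ Sieve.ofArrows Y g ∈ K V ∧ ∀ k l, N₀ ≤ l →
        Function.Bijective (fun φ : testObj T' (Y k) i ⟶ G.obj (CohCx.truncTower X (l + 1)) =>
          φ ≫ G.map (CohCx.truncTowerMap X l)) ∧
        Function.Surjective (fun φ : testObj T' (Y k) (i - 1) ⟶ G.obj (CohCx.truncTower X (l + 1)) =>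
          φ ≫ G.map (CohCx.truncTowerMap X l)) := by
  have hε := exists_testEquiv_of_adj T T' u₀ adj hpull
  obtain ⟨d, hd'⟩ := hd' V hV
  refine ⟨((d : ℤ) - i + 1).toNat, fun S hS => ?_⟩
  obtain ⟨ι, Y, g, h₁, h₂, h₃⟩ := hd' S hS
  refine ⟨ι, Y, g, h₁, h₂, fun k l hl => ?_⟩
  obtain ⟨Z, f, h, hT⟩ := distinguished_cocone_triangle (CohCx.truncTowerMap X l)
  obtain ⟨F, hF, ⟨e⟩⟩ := exists_iso_single_cone P X hX l Z f h hT
  have hv : ∀ m, i - 1 ≤ m → ∀ φ : testObj T (u₀ (Y k)) m ⟶ Z, φ = 0 := fun m hm φ => by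
    rw [← cancel_mono e.hom, zero_comp]
    refine hom_eq_zero T _ m _ (-(l : ℤ) - 2) (fun q hq hqm => ?_) _
    by_cases hq' : q = -(l : ℤ) - 2
    · subst hq'
      exact Or.inr fun c hc => h₃ k _ (P.prop_of_iso (DerCat.homologySingleIso _ F).symm hF) c (by omega)
    · exact Or.inl (DerCat.isZero_homology_single _ q hq' F)
  obtain ⟨hb₁, hb₂⟩ := bij_surj_of_cone T (u₀ (Y k)) i _ f h hT (hv i (by omega)) (hv (i - 1) le_rfl)
  exact ⟨bijective_transfer T T' u₀ G hε _ _ _ hb₁, surjective_transfer T T' u₀ G hε _ _ _ hb₂⟩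

end Groth.Agent.SiteRlim

namespace Groth.Agent.SiteRlim

variable {A : Type (u + 1)} [Category.{u} A] [Abelian A] [HasDerivedCategory.{w} A]
  {A' : Type (u + 1)} [Category.{u} A'] [Abelian A'] [HasDerivedCategory.{w} A']
  {L : A' ⥤ A} [L.Additive] [PreservesFiniteLimits L] [PreservesFiniteColimits L]
  {G : DerivedCategory A ⥤ DerivedCategory A'} (adj : L.mapDerivedCategory ⊣ G)

/-- the unit, from the counit -/
theorem isIso_unit_of_counit (P' : ObjectProperty A') [P'.IsClosedUnderIsomorphisms]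
    (h2b : ∀ M N, P' M → P' N → Function.Bijective (fun φ : M ⟶ N => L.map φ))
    (Y : DerivedCategory A') (hY : WSerre.cohIn P' Y) (hG : WSerre.cohIn P' (G.obj (L.mapDerivedCategory.obj Y)))
    (hc : IsIso (adj.counit.app (L.mapDerivedCategory.obj Y))) : IsIso (adj.unit.app Y) := by
  rw [DerivedCategory.isIso_iff]
  intro j
  haveI := hc
  haveI : IsIso (L.mapDerivedCategory.map (adj.unit.app Y)) := by
    rw [show L.mapDerivedCategory.map (adj.unit.app Y) = inv (adj.counit.app (L.mapDerivedCategory.obj Y)) from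
      IsIso.eq_inv_of_inv_hom_id (adj.left_triangle_components Y)]
    infer_instance
  exact isIso_homology_of_pull P' h2b _ j (hY j) (hG j) inferInstance

end Groth.Agent.SiteRlim
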