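import Groth.Agent.SiteRlim.Main
import Groth.Agent.SiteDer.Adjoint
import Mathlib.Algebra.Homology.DerivedCategory.Ext.Basic

/-! # Derived limits on sites under local cohomological dimension bounds -/

set_option autoImplicit false
set_option linter.all false
set_option backward.isDefEq.respectTransparency false
set_option backward.defeqAttrib.useBackward true

universe w w' v u v₁ u₁

open CategoryTheory Limits Pretriangulated DerivedCategory CategoryTheory.Abelian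

namespace Groth.Agent.SiteRlim

variable {C : Type u₁} [Category.{v₁} C] {J : GrothendieckTopology C}
  {A : Type u} [Category.{v} A] [Abelian A] [HasDerivedCategory.{w} A] (T : TestSys J A)

lemma isLE_testObj (U : C) (m : ℤ) : (testObj T U m).IsLE m := by
  haveI : (T.S.obj U).IsLE 0 :=
    inferInstanceAs (((singleFunctor A 0).obj (T.P.obj U)).IsLE 0)
  exact TStructure.t.isLE_shift (T.S.obj U) 0 (-m) m (by omega)

/-- vanishing of maps from test objects -/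
theorem hom_eq_zero [HasExt.{w'} A] (U : C) (m : ℤ) (X : DerivedCategory A) (a : ℤ) [X.IsGE a]
    (h : ∀ q, a ≤ q → q ≤ m → IsZero ((homologyFunctor A q).obj X) ∨
      ∀ k : ℕ, (k : ℤ) = m - q → Subsingleton (Ext.{w'} (T.P.obj U) ((homologyFunctor A q).obj X) k))
    (φ : testObj T U m ⟶ X) : φ = 0 := by
  haveI := isLE_testObj T U m
  let t := TStructure.t (C := A)
  have hT := t.triangleLEGT_distinguished m X
  haveI : ((t.truncGT m).obj X).IsGE (m + 1) := inferInstance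
  obtain ⟨ψ, rfl⟩ := Triangle.coyoneda_exact₂ _ hT φ
    (TStructure.t.zero (φ ≫ (t.truncGTπ m).app X) m (m + 1) (by omega))
  let R : ObjectProperty (DerivedCategory A) := fun Z => ∀ ρ : testObj T U m ⟶ Z, ρ = 0
  haveI : R.IsClosedUnderIsomorphisms := ⟨fun {Z Z'} e h ρ => by
    rw [← cancel_mono e.inv, h (ρ ≫ e.inv), zero_comp]⟩
  have hR : R ((t.truncLE m).obj X) := by
    refine DerCat.prop_of_single R (fun Z hZ ρ => hZ.eq_of_tgt _ _) (fun T₀ hT₀ h₁ h₃ ρ => ?_) _ a m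
      fun q hq hqm => ?_
    · obtain ⟨y, rfl⟩ := Triangle.coyoneda_exact₂ _ hT₀ ρ (h₃ _)
      rw [h₁ y, zero_comp]
    · haveI := DerCat.isIso_homology_truncLEι X m q hqm
      refine R.prop_of_iso ((singleFunctor A q).mapIso
        (asIso ((homologyFunctor A q).map ((t.truncLEι m).app X))).symm) ?_
      intro ρ
      rcases h q hq hqm with hz | hs
      · exact ((singleFunctor A q).map_isZero hz).eq_of_tgt _ _
      · obtain ⟨k, hk⟩ : ∃ k : ℕ, (k : ℤ) = m - q := ⟨(m - q).toNat, by omega⟩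
        haveI := hs k hk
        let M := (homologyFunctor A q).obj X
        haveI : Subsingleton ((singleFunctor A 0).obj (T.P.obj U) ⟶ ((singleFunctor A 0).obj M)⟦(k : ℤ)⟧) :=
          (Ext.homEquiv (X := T.P.obj U) (Y := M) (n := k)).symm.subsingleton
        apply (adjShift T U m _).injective
        let e₁ : ((singleFunctor A q).obj M)⟦m⟧ ≅ ((singleFunctor A 0).obj M)⟦(k : ℤ)⟧ :=
          (shiftFunctor _ m).mapIso (DerCat.singleShiftIso q M).symm ≪≫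
            ((shiftFunctorAdd' (DerivedCategory A) (-q) m (k : ℤ) (by omega)).app _).symm
        rw [← cancel_mono e₁.hom]
        exact Subsingleton.elim (α := ((singleFunctor A 0).obj (T.P.obj U) ⟶ _)) _ _
  rw [hR ψ, zero_comp]

lemma bij_surj_of_cone (U : C) (i : ℤ) {K' K X : DerivedCategory A} (t : K' ⟶ K) (f : K ⟶ X)
    (g : X ⟶ K'⟦(1 : ℤ)⟧) (hT : Triangle.mk t f g ∈ distTriang _)
    (h₀ : ∀ φ : testObj T U i ⟶ X, φ = 0) (h₁ : ∀ φ : testObj T U (i - 1) ⟶ X, φ = 0) :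
    Function.Bijective (fun ψ : testObj T U i ⟶ K' => ψ ≫ t) ∧
      Function.Surjective (fun ψ : testObj T U (i - 1) ⟶ K' => ψ ≫ t) := by
  have hsurj : ∀ m, (∀ φ : testObj T U m ⟶ X, φ = 0) →
      Function.Surjective (fun ψ : testObj T U m ⟶ K' => ψ ≫ t) := fun m hm y => by
    obtain ⟨x, hx⟩ := Triangle.coyoneda_exact₂ _ hT y (hm _)
    exact ⟨x, hx.symm⟩
  refine ⟨⟨fun ψ ψ' he => ?_, hsurj i h₀⟩, hsurj _ h₁⟩
  rw [← sub_eq_zero]
  have he' : (ψ - ψ') ≫ t = 0 := by rw [Preadditive.sub_comp]; exact sub_eq_zero.2 he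
  generalize ψ - ψ' = χ at he'
  let e : testObj T U (i - 1) ≅ (testObj T U i)⟦(1 : ℤ)⟧ :=
    (shiftFunctorAdd' (DerivedCategory A) (-i) 1 (-(i - 1)) (by omega)).app _
  obtain ⟨y, hy⟩ := Triangle.coyoneda_exact₁ _ hT (χ⟦(1 : ℤ)⟧') (by
    show χ⟦(1 : ℤ)⟧' ≫ t⟦(1 : ℤ)⟧' = 0
    rw [← Functor.map_comp, he', Functor.map_zero])
  apply (shiftFunctor (DerivedCategory A) (1 : ℤ)).map_injective
  rw [hy, Functor.map_zero, show y = 0 by rw [← cancel_epi e.hom, h₁ (e.hom ≫ y), comp_zero], zero_comp]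

section Cone

omit T

variable {K' K X : DerivedCategory A} (t : K' ⟶ K) (f : K ⟶ X)
    (g : X ⟶ K'⟦(1 : ℤ)⟧) (hT : Triangle.mk t f g ∈ distTriang _)
include hT

lemma isZero_homology_cone (q : ℤ) (h₁ : Epi ((homologyFunctor A q).map t))
    (h₂ : Mono ((homologyFunctor A (q + 1)).map t)) : IsZero ((homologyFunctor A q).obj X) :=
  (HomologySequence.exact₃ _ hT q (q + 1) rfl).isZero_of_both_zeros
    ((HomologySequence.epi_homologyMap_mor₁_iff _ hT q).1 h₁)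
    ((HomologySequence.mono_homologyMap_mor₁_iff _ hT q (q + 1) rfl).1 h₂)

lemma isZero_homology_cone_of_isIso (q : ℤ) (h₁ : IsIso ((homologyFunctor A q).map t))
    (h₂ : IsIso ((homologyFunctor A (q + 1)).map t)) : IsZero ((homologyFunctor A q).obj X) :=
  isZero_homology_cone t f g hT q inferInstance inferInstance

lemma isGE_cone (a b : ℤ) [K'.IsGE a] [K.IsGE b] : X.IsGE (min b (a - 1)) := by
  rw [DerivedCategory.isGE_iff]
  intro q hq
  exact isZero_homology_cone t f g hT q ⟨fun _ _ _ => (isZero_of_isGE K b q (by omega)).eq_of_src _ _⟩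
    ⟨fun _ _ _ => (isZero_of_isGE K' a (q + 1) (by omega)).eq_of_tgt _ _⟩

lemma cohIn_cone (P : ObjectProperty A) [WSerre.IsWeakSerre P] (h₁ : WSerre.cohIn P K')
    (h₂ : WSerre.cohIn P K) : WSerre.cohIn P X := by
  refine SiteDer.cohIn_obj₂ P _ (rot_of_distTriang _ hT) h₂ ?_
  exact fun q => P.prop_of_iso (((homologyFunctor A 0).shiftIso 1 q (q + 1) (by omega)).app K').symm (h₁ (q + 1))

end Cone

variable {B : Set C} (hB : ∀ U : C, ∃ (ι : Type*) (Y : ι → C) (g : ∀ i, Y i ⟶ U),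
  Sieve.ofArrows Y g ∈ J U ∧ ∀ i, Y i ∈ B)
include hB

/-- cohomology of derived limits, with vanishing conditions on the cones -/
theorem isIso_homology_rlim_of_cones [HasExt.{w'} A] (K : ℕ → DerivedCategory A) (t : ∀ n, K (n + 1) ⟶ K n)
    [HasProduct K] (hK : ∀ n, ∃ a : ℤ, (K n).IsGE a)
    (L : DerivedCategory A) (a : ∀ n, L ⟶ K n) (hL : CohCx.IsRlimVia K t L a) (i : ℤ) (n₀ : ℕ)
    (hconst : ∀ n, n₀ ≤ n → IsIso ((homologyFunctor A i).map (t n)))
    (hvan : ∀ V ∈ B, ∃ N : ℕ, ∀ R ∈ J V, ∃ (ι : Type u₁) (Y : ι → C) (g : ∀ j, Y j ⟶ V),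
      (∀ j, R.arrows (g j)) ∧ Sieve.ofArrows Y g ∈ J V ∧ ∀ j n, N ≤ n →
        ∀ (X : DerivedCategory A) (f : K n ⟶ X) (h : X ⟶ (K (n + 1))⟦(1 : ℤ)⟧),
          Triangle.mk (t n) f h ∈ distTriang _ → ∀ m q : ℤ, i - 1 ≤ m → m ≤ i → q ≤ m →
            IsZero ((homologyFunctor A q).obj X) ∨
              ∀ k : ℕ, (k : ℤ) = m - q → Subsingleton (Ext.{w'} (T.P.obj (Y j)) ((homologyFunctor A q).obj X) k))
    (n : ℕ) (hn : n₀ ≤ n) : IsIso ((homologyFunctor A i).map (a n)) := by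
  refine isIso_homology_rlim T hB K t L a hL i n₀ hconst (fun V hV => ?_) n hn
  obtain ⟨N, hN⟩ := hvan V hV
  refine ⟨N, fun R hR => ?_⟩
  obtain ⟨ι, Y, g, h₁, h₂, h₃⟩ := hN R hR
  refine ⟨ι, Y, g, h₁, h₂, fun j l hl => ?_⟩
  obtain ⟨X, f, h, hT⟩ := distinguished_cocone_triangle (t l)
  obtain ⟨b₁, hb₁⟩ := hK (l + 1)
  obtain ⟨b₂, hb₂⟩ := hK l
  haveI := isGE_cone (t l) f h hT b₁ b₂
  exact bij_surj_of_cone T (Y j) i (t l) f h hT
    (fun φ => hom_eq_zero T (Y j) i X (min b₂ (b₁ - 1)) (fun q _ hq => h₃ j l hl X f h hT i q (by omega) le_rfl hq) φ)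
    (fun φ => hom_eq_zero T (Y j) (i - 1) X (min b₂ (b₁ - 1))
      (fun q _ hq => h₃ j l hl X f h hT (i - 1) q le_rfl (by omega) hq) φ)

/-- eventually constant systems -/
theorem exists_isIso_homology_rlim [HasExt.{w'} A] (P : ObjectProperty A) [WSerre.IsWeakSerre P]
    (K : ℕ → DerivedCategory A) (t : ∀ n, K (n + 1) ⟶ K n) [HasProduct K]
    (hK : ∀ n, ∃ a : ℤ, (K n).IsGE a) (hP : ∀ n, WSerre.cohIn P (K n))
    (hconst : ∀ j : ℤ, ∃ n₀ : ℕ, ∀ n, n₀ ≤ n → IsIso ((homologyFunctor A j).map (t n)))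
    (hd : ∀ V ∈ B, ∃ d : ℕ, ∀ R ∈ J V, ∃ (ι : Type u₁) (Y : ι → C) (g : ∀ j, Y j ⟶ V),
      (∀ j, R.arrows (g j)) ∧ Sieve.ofArrows Y g ∈ J V ∧
      ∀ (j : ι) (M : A), P M → ∀ k : ℕ, d < k → Subsingleton (Ext.{w'} (T.P.obj (Y j)) M k))
    (L : DerivedCategory A) (a : ∀ n, L ⟶ K n) (hL : CohCx.IsRlimVia K t L a) (i : ℤ) :
    ∃ n₀ : ℕ, ∀ n, n₀ ≤ n → IsIso ((homologyFunctor A i).map (a n)) := by
  obtain ⟨n₀, hn₀⟩ := hconst i
  refine ⟨n₀, isIso_homology_rlim_of_cones T hB K t hK L a hL i n₀ hn₀ fun V hV => ?_⟩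
  obtain ⟨d, hd⟩ := hd V hV
  have hN : ∀ r : ℕ, ∃ N : ℕ, ∀ n, N ≤ n → ∀ j : ℤ, i - 1 - d ≤ j → j < i - 1 - d + r →
      IsIso ((homologyFunctor A j).map (t n)) := by
    intro r
    induction r with
    | zero => exact ⟨0, fun n _ j h₁ h₂ => by omega⟩
    | succ r ih =>
      obtain ⟨N, hN⟩ := ih
      obtain ⟨N', hN'⟩ := hconst (i - 1 - d + r)
      refine ⟨max N N', fun n hn j h₁ h₂ => ?_⟩
      by_cases h : j = i - 1 - d + r
      · subst h; exact hN' n (by omega)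
      · exact hN n (by omega) j h₁ (by omega)
  obtain ⟨N, hN⟩ := hN (d + 3)
  refine ⟨N, fun R hR => ?_⟩
  obtain ⟨ι, Y, g, h₁, h₂, h₃⟩ := hd R hR
  refine ⟨ι, Y, g, h₁, h₂, fun j l hl X f h hT m q hm₁ hm₂ hq => ?_⟩
  by_cases hqd : i - 1 - d ≤ q
  · exact Or.inl (isZero_homology_cone_of_isIso (t l) f h hT q (hN l hl q hqd (by omega))
      (hN l hl (q + 1) (by omega) (by omega)))
  · exact Or.inr fun k hk => h₃ j _ (cohIn_cone (t l) f h hT P (hP (l + 1)) (hP l) q) k (by omega)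

end Groth.Agent.SiteRlim
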