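import Groth.Agent.SiteRlim.Sites
import Groth.Agent.SiteRlim.Criteria
import Groth.Agent.SiteDer.Push
import Groth.Agent.SiteBase.ModHom
import Groth.Agent.SiteBase.KFlat.Basic
import Mathlib.Algebra.Homology.SingleHomology

/-! # Test objects and morphisms of ringed sites -/

set_option autoImplicit false
set_option linter.all false
set_option backward.isDefEq.respectTransparency false
set_option backward.defeqAttrib.useBackward true

universe u

open CategoryTheory Limits Opposite

attribute [local instance] HasDerivedCategory.standard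

namespace Groth.Agent.SiteRlim

variable {C : Type u} [SmallCategory C] {J : GrothendieckTopology C} {O : Sheaf J CommRingCat.{u}}

/-- maps out of test objects are sections -/
noncomputable abbrev modSec (U : C) (M : ModSite.Mod O) :
    ((modTestSys (ModSite.ringSh O)).P.obj U ⟶ M) ≃ M.val.obj (op U) :=
  secOf (CohAcyc.oAdj (ModSite.ringSh O)) U M

lemma modSec_comp {U : C} {M N : ModSite.Mod O} (φ : (modTestSys (ModSite.ringSh O)).P.obj U ⟶ M) (g : M ⟶ N) :
    modSec U N (φ ≫ g) = g.val.app (op U) (modSec U M φ) :=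
  secOf_comp (CohAcyc.oAdj (ModSite.ringSh O)) φ g

/-- test objects are the `j_! O` -/
noncomputable def testFreeOnIso (U : C) :
    ModSite.freeOn O U ≅ (modTestSys (ModSite.ringSh O)).P.obj U :=
  CohAcyc.isoOfHomEquiv (fun M => (modSec U M).trans (SiteBase.freeOnEquiv U M).symm.toEquiv)
    (fun {M N} g φ => by
      apply (SiteBase.freeOnEquiv U N).injective
      show SiteBase.freeOnEquiv U N ((SiteBase.freeOnEquiv U N).symm (modSec U N (φ ≫ g))) =
        SiteBase.freeOnEquiv U N ((SiteBase.freeOnEquiv U M).symm (modSec U M φ) ≫ g)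
      rw [AddEquiv.apply_symm_apply, modSec_comp]
      conv_lhs => rw [← (SiteBase.freeOnEquiv U M).apply_symm_apply (modSec U M φ)]
      generalize (SiteBase.freeOnEquiv U M).symm (modSec U M φ) = ψ
      show g.val.app (op U) (SiteBase.freeOnEval U M ψ) = SiteBase.freeOnEval U N (ψ ≫ g)
      simp only [SiteBase.freeOnEval, AddMonoidHom.mk'_apply]
      rw [Adjunction.homEquiv_naturality_right]
      rfl)

theorem isFlat_test (U : C) : ModSite.IsFlat ((modTestSys (ModSite.ringSh O)).P.obj U) :=
  SiteBase.isFlat_of_iso (testFreeOnIso U) SiteBase.isFlat_freeOn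

variable {D : Type u} [SmallCategory D] {K : GrothendieckTopology D}
  {O_C : Sheaf J CommRingCat.{u}} {O_D : Sheaf K CommRingCat.{u}} (f : ModSite.RMor O_C O_D)

/-- pullback of test objects -/
noncomputable def pullTestIso (W : D) :
    f.pull.obj ((modTestSys (ModSite.ringSh O_D)).P.obj W) ≅ (modTestSys (ModSite.ringSh O_C)).P.obj (f.fn.obj W) :=
  (CohAcyc.isoOfHomEquiv (fun M => ((f.adj.homEquiv _ M).trans (modSec W (f.push.obj M))).trans
      (modSec (f.fn.obj W) M).symm)
    (fun {M N} g φ => by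
      apply (modSec (f.fn.obj W) N).injective
      simp only [Equiv.trans_apply, modSec_comp, Adjunction.homEquiv_naturality_right]
      refine (Equiv.apply_symm_apply _ _).trans ?_
      exact congrArg (g.val.app (op (f.fn.obj W))) (Equiv.apply_symm_apply _ _).symm)).symm

/-- Maps from a K-flat complex with flat terms into a derived direct image. -/
theorem exists_bijective_kFlat [SiteCmp.HasRpushD f]
    {L : HomotopyCategory (ModSite.Mod O_D) (ComplexShape.up ℤ)} (hL : SiteDer.kFlatP O_D L) :
    ∃ ε : DerivedCategory.Qh.obj L ⟶ (SiteCmp.RpushD f).obj (DerivedCategory.Qh.obj ((SiteDer.pullH f).obj L)),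
      ∀ Z, Function.Bijective (fun ψ : DerivedCategory.Qh.obj ((SiteDer.pullH f).obj L) ⟶ Z =>
        ε ≫ (SiteCmp.RpushD f).map ψ) := by
  haveI : f.push.Additive := f.adj.right_adjoint_additive
  let W := HomotopyCategory.quasiIso (ModSite.Mod O_C) (ComplexShape.up ℤ)
  let η := (SiteCmp.pushKh f).totalRightDerivedUnit DerivedCategory.Qh W
  let ε := DerivedCategory.Qh.map ((SiteDer.adjH f).unit.app L) ≫ η.app ((SiteDer.pullH f).obj L)
  refine ⟨ε, fun Z => ?_⟩
  obtain ⟨I, g, hI, hg⟩ := SiteDer.exists_kInj (DerivedCategory.Q.objPreimage Z)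
  let e : DerivedCategory.Qh.obj ((HomotopyCategory.quotient _ _).obj I) ≅ Z :=
    (DerivedCategory.quotientCompQhIso _).app I ≪≫ (asIso (DerivedCategory.Q.map g)).symm ≪≫
      DerivedCategory.Q.objObjPreimageIso Z
  haveI := hI
  haveI : IsIso (η.app ((HomotopyCategory.quotient _ _).obj I)) :=
    SiteDer.isIso_unit f.push ⟨I, hI, ⟨Iso.refl _⟩⟩
  have h1 : Function.Bijective (fun a : (SiteDer.pullH f).obj L ⟶ (HomotopyCategory.quotient _ _).obj I =>
      ε ≫ (SiteCmp.RpushD f).map (DerivedCategory.Qh.map a ≫ e.hom)) := by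
    have hb := ((Iso.homToEquiv (asIso (η.app ((HomotopyCategory.quotient _ _).obj I)) ≪≫
      (SiteCmp.RpushD f).mapIso e)).bijective.comp (SiteDer.bijective_Qh_map f hL I)).comp
        ((SiteDer.adjH f).homEquiv L _).bijective
    convert hb using 1
    funext a
    simp only [Function.comp_apply, ε, Adjunction.homEquiv_unit, Functor.map_comp, Iso.homToEquiv_apply,
      Iso.trans_hom, asIso_hom, Functor.mapIso_hom, Category.assoc]
    congr 1
    exact (η.naturality_assoc a _).symm
  have h2 : Function.Bijective (fun a : (SiteDer.pullH f).obj L ⟶ (HomotopyCategory.quotient _ _).obj I =>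
      DerivedCategory.Qh.map a ≫ e.hom) :=
    (Iso.homToEquiv e).bijective.comp (CochainComplex.IsKInjective.Qh_map_bijective _ I)
  exact (Function.Bijective.of_comp_iff _ h2).1 h1

/-- `Hom(P_W[-m], Rf_* Z) = Hom(P_{u(W)}[-m], Z)` -/
theorem exists_testEquiv [SiteCmp.HasRpushD f] (W : D) (m : ℤ) :
    ∃ ε : testObj (modTestSys (ModSite.ringSh O_D)) W m ⟶
        (SiteCmp.RpushD f).obj (testObj (modTestSys (ModSite.ringSh O_C)) (f.fn.obj W) m),
      ∀ Z, Function.Bijective (fun ψ : testObj (modTestSys (ModSite.ringSh O_C)) (f.fn.obj W) m ⟶ Z =>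
        ε ≫ (SiteCmp.RpushD f).map ψ) := by
  haveI : f.pull.Additive := f.adj.left_adjoint_additive
  let P := (modTestSys (ModSite.ringSh O_D)).P.obj W
  let P₁ := (modTestSys (ModSite.ringSh O_C)).P.obj (f.fn.obj W)
  let Lc : CochainComplex (ModSite.Mod O_D) ℤ := (HomologicalComplex.single _ (ComplexShape.up ℤ) m).obj P
  have hX : ∀ q, q ≠ m → IsZero (Lc.X q) := fun q hq => HomologicalComplex.isZero_single_obj_X _ _ _ _ hq
  have hm : ModSite.IsFlat (Lc.X m) :=
    SiteBase.isFlat_of_iso (HomologicalComplex.singleObjXSelf (ComplexShape.up ℤ) m P).symm (isFlat_test W)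
  have hflat : ∀ n, ModSite.IsFlat (Lc.X n) := fun n => by
    by_cases hn : n = m
    · subst hn; exact hm
    · exact SiteBase.KFlat.isFlat_of_isZero (hX n hn)
  obtain ⟨ε, hε⟩ := exists_bijective_kFlat f (L := (HomotopyCategory.quotient _ _).obj Lc)
    ⟨Lc, SiteBase.KFlat.isKFlat_of_isZero m hX hm, hflat, rfl⟩
  let a : testObj (modTestSys (ModSite.ringSh O_D)) W m ≅ DerivedCategory.Qh.obj ((HomotopyCategory.quotient _ _).obj Lc) :=
    DerCat.singleShiftIso m P ≪≫ (DerivedCategory.singleFunctorIsoCompQ _ m).app P ≪≫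
      ((DerivedCategory.quotientCompQhIso _).app Lc).symm
  let b : DerivedCategory.Qh.obj ((SiteDer.pullH f).obj ((HomotopyCategory.quotient _ _).obj Lc)) ≅
      testObj (modTestSys (ModSite.ringSh O_C)) (f.fn.obj W) m :=
    DerivedCategory.Qh.mapIso ((f.pull.mapHomotopyCategoryFactors (ComplexShape.up ℤ)).app Lc) ≪≫
      (DerivedCategory.quotientCompQhIso _).app _ ≪≫
      DerivedCategory.Q.mapIso ((HomologicalComplex.singleMapHomologicalComplex f.pull (ComplexShape.up ℤ) m).app P ≪≫
        (HomologicalComplex.single _ (ComplexShape.up ℤ) m).mapIso (pullTestIso f W)) ≪≫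
      ((DerivedCategory.singleFunctorIsoCompQ _ m).app P₁).symm ≪≫ (DerCat.singleShiftIso m P₁).symm
  refine ⟨a.hom ≫ ε ≫ (SiteCmp.RpushD f).map b.hom, fun Z => ?_⟩
  convert ((Iso.homFromEquiv a.symm).bijective.comp (hε Z)).comp (Iso.homFromEquiv b.symm).bijective using 1
  funext ψ
  simp

end Groth.Agent.SiteRlim
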