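import Groth.Prelude.Def_SiteCmp
import Groth.Agent.SiteBase.ModColimits
import Mathlib.CategoryTheory.Adjunction.FullyFaithful

/-! # The direct image to a coarser topology is fully faithful on modules -/

set_option autoImplicit false
set_option linter.all false
set_option backward.isDefEq.respectTransparency false
set_option backward.defeqAttrib.useBackward true

universe u

open CategoryTheory Opposite

namespace Groth.Agent.SiteRlim

variable {C : Type u} [SmallCategory C] {J J' : GrothendieckTopology C} (h : J' ≤ J) (O : Sheaf J CommRingCat.{u})

theorem eps_push_faithful : (SiteCmp.eps h O).push.Faithful where
  map_injective {F G} a b e := by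
    ext U x
    exact congrArg (fun t => t.val.app U x) e

theorem eps_push_full : (SiteCmp.eps h O).push.Full where
  map_surjective {F G} g := by
    refine ⟨⟨{
      app := fun U => ModuleCat.ofHom
        { toFun := fun x => g.val.app U x
          map_add' := fun x y => map_add (g.val.app U).hom x y
          map_smul' := fun r x => (g.val.app U).hom.map_smul r x }
      naturality := fun {U V} k => by
        ext x
        exact PresheafOfModules.naturality_apply g.val k x }⟩, ?_⟩
    ext U x
    rfl

theorem isIso_eps_counit (F : ModSite.Mod O) : IsIso ((SiteCmp.eps h O).adj.counit.app F) := by
  haveI := eps_push_full h O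
  haveI := eps_push_faithful h O
  infer_instance

end Groth.Agent.SiteRlim
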