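import Groth.Agent.SiteRlim.Equiv
import Groth.Agent.SiteRlim.Ringed
import Groth.Agent.SiteBase.ModGrothendieck
import Groth.Prelude.Def_SiteCmp

/-! # Fully faithful direct images without higher cohomology -/

set_option autoImplicit false
set_option linter.all false
set_option backward.isDefEq.respectTransparency false
set_option backward.defeqAttrib.useBackward true

universe u

open CategoryTheory Limits Opposite CategoryTheory.Abelian

attribute [local instance] HasDerivedCategory.standard

namespace Groth.Agent.SiteRlim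

variable {C : Type u} [SmallCategory C] {J : GrothendieckTopology C} {O_C : Sheaf J CommRingCat.{u}}
  {D : Type u} [SmallCategory D] {K : GrothendieckTopology D} {O_D : Sheaf K CommRingCat.{u}}
  (f : ModSite.RMor O_C O_D) [HasExt.{u} (ModSite.Mod O_C)]
  (A : ObjectProperty (ModSite.Mod O_C)) [WSerre.IsWeakSerre A]
  (hff : ∀ F, IsIso (f.adj.counit.app F))
  {B' : Set D} (hB' : ∀ U : D, ∃ (ι : Type u) (Y : ι → D) (g : ∀ i, Y i ⟶ U),
    Sieve.ofArrows Y g ∈ K U ∧ ∀ i, Y i ∈ B')
  (hvan : ∀ W ∈ B', ∀ F, A F → ∀ p : ℕ, 0 < p →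
    Subsingleton (Ext.{u} ((modTestSys (ModSite.ringSh O_C)).P.obj (f.fn.obj W)) F p))

include hB' hvan in
/-- `f_*` is exact on short exact sequences starting in `A` -/
theorem epi_push_g {S : ShortComplex (ModSite.Mod O_C)} (hS : S.ShortExact) (h₁ : A S.X₁) :
    Epi (f.push.map S.g) := by
  let T' := modTestSys (ModSite.ringSh O_D)
  refine T'.epi_of_test _ fun U φ => ?_
  obtain ⟨ι, Y, g, hY, hB⟩ := hB' U
  refine ⟨_, hY, fun W k hk => ?_⟩
  obtain ⟨j, b, rfl⟩ := (Sieve.mem_ofArrows_iff _ _ k).1 hk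
  haveI := hvan (Y j) (hB j) _ h₁ 1 one_pos
  let e := pullTestIso f (Y j)
  let s := e.inv ≫ (f.adj.homEquiv _ _).symm (T'.P.map (g j) ≫ φ)
  obtain ⟨x, hx⟩ := Ext.covariant_sequence_exact₃ _ hS (Ext.mk₀ s) (rfl : 0 + 1 = 1) (Subsingleton.elim _ _)
  obtain ⟨t, rfl⟩ := (Ext.mk₀_bijective _ _).2 x
  rw [Ext.mk₀_comp_mk₀] at hx
  have ht : t ≫ S.g = s := (Ext.mk₀_bijective _ _).1 hx
  refine ⟨T'.P.map b ≫ f.adj.homEquiv _ _ (e.hom ≫ t), ?_⟩
  rw [Category.assoc, ← f.adj.homEquiv_naturality_right, Category.assoc, ht]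
  simp [s]
  exact congrArg (T'.P.map b ≫ ·) (Equiv.apply_symm_apply _ _)

include hB' hvan in
theorem shortExact_push {S : ShortComplex (ModSite.Mod O_C)} (hS : S.ShortExact) (h₁ : A S.X₁) :
    (S.map f.push).ShortExact := by
  haveI : PreservesLimitsOfSize.{0, 0} f.push := f.adj.rightAdjoint_preservesLimits
  haveI : PreservesFiniteLimits f.push := PreservesLimitsOfSize.preservesFiniteLimits.{0, 0} _
  exact CohAcyc.shortExact_of_rightExact f.push hS (epi_push_g f A hB' hvan hS h₁)

/-- the essential image of `A` -/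
def pushA : ObjectProperty (ModSite.Mod O_D) := fun M => A (f.pull.obj M) ∧ IsIso (f.adj.unit.app M)

omit [HasExt.{u} (ModSite.Mod O_C)] in
include hff in
theorem map_eq_pushA : A.map f.push = pushA f A := by
  funext M
  refine propext ⟨fun ⟨F, hF, ⟨e⟩⟩ => ?_, fun h => ?_⟩
  · haveI := hff F
    refine ⟨A.prop_of_iso ((asIso (f.adj.counit.app F)).symm ≪≫ f.pull.mapIso e) hF, ?_⟩
    haveI : IsIso (f.adj.unit.app (f.push.obj F)) := IsIso.of_isIso_fac_right (f.adj.right_triangle_components F)
    exact (NatTrans.isIso_app_iff_of_iso f.adj.unit e).1 inferInstance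
  · haveI := h.2
    exact ⟨_, h.1, ⟨(asIso (f.adj.unit.app M)).symm⟩⟩

variable [PreservesFiniteLimits f.pull]

include hB' hvan in
theorem isWeakSerre_pushA : WSerre.IsWeakSerre (pushA f A) := by
  haveI : f.pull.Additive := f.adj.left_adjoint_additive
  haveI : PreservesLimitsOfSize.{0, 0} f.push := f.adj.rightAdjoint_preservesLimits
  haveI : PreservesFiniteLimits f.push := PreservesLimitsOfSize.preservesFiniteLimits.{0, 0} _
  haveI : PreservesFiniteLimits (f.pull ⋙ f.push) := comp_preservesFiniteLimits _ _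
  haveI : (pushA f A).IsClosedUnderIsomorphisms := ⟨fun {M N} e h =>
    ⟨A.prop_of_iso (f.pull.mapIso e) h.1, (NatTrans.isIso_app_iff_of_iso f.adj.unit e).1 h.2⟩⟩
  refine
    { exists_zero := ?_
      kernels_le := ?_
      cokernels_le := ?_
      prop_X₂_of_shortExact := ?_ }
  · refine ⟨_, isZero_zero _, A.prop_of_isZero (f.pull.map_isZero (isZero_zero _)), ?_⟩
    exact ⟨0, (isZero_zero _).eq_of_src _ _, ((f.pull ⋙ f.push).map_isZero (isZero_zero _)).eq_of_src _ _⟩
  · rintro _ ⟨g, k, hk, hM, hN⟩
    let e : k.pt ≅ kernel g := hk.conePointUniqueUpToIso (limit.isLimit (parallelPair g 0))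
    refine (pushA f A).prop_of_iso e.symm ⟨?_, ?_⟩
    · exact A.prop_of_iso (PreservesKernel.iso f.pull g).symm (SiteDer.prop_kernel A _ hM.1 hN.1)
    · haveI := hM.2
      haveI := hN.2
      let η := f.adj.unit
      let G := f.pull ⋙ f.push
      have hw : (G.map (kernel.ι g) ≫ inv (η.app _)) ≫ g = 0 := by
        rw [← cancel_mono (η.app _), zero_comp, Category.assoc, Category.assoc]
        erw [η.naturality g, IsIso.inv_hom_id_assoc]
        rw [← G.map_comp, kernel.condition, G.map_zero]
      refine ⟨kernel.lift g _ hw, ?_, ?_⟩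
      · rw [← cancel_mono (kernel.ι g), Category.assoc, kernel.lift_ι, Category.id_comp]
        have h := η.naturality (kernel.ι g)
        dsimp [η, G] at h ⊢
        rw [← reassoc_of% h, IsIso.hom_inv_id, Category.comp_id]
      · haveI : Mono (G.map (kernel.ι g)) := inferInstance
        rw [← cancel_mono (G.map (kernel.ι g)), Category.assoc, Category.id_comp]
        have h := η.naturality (kernel.ι g)
        dsimp [η, G] at h ⊢
        rw [← h, kernel.lift_ι_assoc, Category.assoc, IsIso.inv_hom_id, Category.comp_id]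
  · rintro _ ⟨g, k, hk, hM, hN⟩
    let e : k.pt ≅ cokernel g := hk.coconePointUniqueUpToIso (colimit.isColimit (parallelPair g 0))
    refine (pushA f A).prop_of_iso e.symm ⟨?_, ?_⟩
    · exact A.prop_of_iso (PreservesCokernel.iso f.pull g).symm (SiteDer.prop_cokernel A _ hM.1 hN.1)
    · haveI := hM.2
      haveI := hN.2
      let η := f.adj.unit
      let G := f.pull ⋙ f.push
      let q := f.pull.map (cokernel.π g)
      let S₀ := (ShortComplex.mk g (cokernel.π g) (cokernel.condition g)).map f.pull
      have hS₀ : S₀.Exact := (ShortComplex.exact_of_g_is_cokernel _ (cokernelIsCokernel g)).map f.pull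
      haveI : Epi q := inferInstance
      have hI : A (kernel q) := SiteDer.prop_kernel A q hN.1
        (A.prop_of_iso (PreservesCokernel.iso f.pull g).symm (SiteDer.prop_cokernel A _ hM.1 hN.1))
      let p : f.pull.obj _ ⟶ kernel q := kernel.lift q (f.pull.map g) S₀.zero
      haveI : Epi p := S₀.exact_iff_epi_kernel_lift.1 hS₀
      let Sp := ShortComplex.mk (kernel.ι p) p (kernel.condition p)
      have hSp : Sp.ShortExact := { exact := ShortComplex.exact_of_f_is_kernel _ (kernelIsKernel p) }
      let Sq := ShortComplex.mk (kernel.ι q) q (kernel.condition q)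
      have hSq : Sq.ShortExact := { exact := ShortComplex.exact_of_f_is_kernel _ (kernelIsKernel q) }
      haveI : Epi (f.push.map p) :=
        epi_push_g f A hB' hvan hSp (SiteDer.prop_kernel A p hM.1 hI)
      have hq := shortExact_push f A hB' hvan hSq hI
      haveI : Epi (G.map (cokernel.π g)) := hq.epi_g
      let φ : S₀.map f.push ⟶ Sq.map f.push :=
        { τ₁ := f.push.map p
          τ₂ := 𝟙 _
          τ₃ := 𝟙 _
          comm₁₂ := by
            show f.push.map p ≫ f.push.map (kernel.ι q) = f.push.map (f.pull.map g) ≫ 𝟙 _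
            rw [← f.push.map_comp, kernel.lift_ι, Category.comp_id]
          comm₂₃ := (Category.id_comp _).trans (Category.comp_id _).symm }
      haveI : Epi φ.τ₁ := ‹Epi (f.push.map p)›
      haveI : IsIso φ.τ₂ := inferInstanceAs (IsIso (𝟙 _))
      haveI : Mono φ.τ₃ := inferInstanceAs (Mono (𝟙 _))
      have hex : (S₀.map f.push).Exact := (ShortComplex.exact_iff_of_epi_of_isIso_of_mono φ).2 hq.exact
      haveI : Epi (S₀.map f.push).g := hq.epi_g
      have hw : G.map g ≫ inv (η.app _) ≫ cokernel.π g = 0 := by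
        rw [← cancel_epi (η.app _), comp_zero]
        erw [← η.naturality_assoc g]
        rw [IsIso.hom_inv_id_assoc]
        exact cokernel.condition g
      obtain ⟨s, hs⟩ : ∃ s : G.obj (cokernel g) ⟶ cokernel g, G.map (cokernel.π g) ≫ s = inv (η.app _) ≫ cokernel.π g :=
        ⟨hex.desc (inv (η.app _) ≫ cokernel.π g) hw, hex.g_desc _ _⟩
      refine ⟨s, ?_, ?_⟩
      · rw [← cancel_epi (cokernel.π g)]
        refine Eq.trans ?_ (Category.comp_id (cokernel.π g)).symm
        have h := η.naturality (cokernel.π g)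
        dsimp [η, G] at h hs ⊢
        rw [reassoc_of% h, hs, IsIso.hom_inv_id_assoc]
      · rw [← cancel_epi (G.map (cokernel.π g))]
        refine Eq.trans ?_ (Category.comp_id (G.map (cokernel.π g))).symm
        have h := η.naturality (cokernel.π g)
        dsimp [η, G] at h hs ⊢
        rw [reassoc_of% hs, h, IsIso.inv_hom_id_assoc]
  · intro S hS h₁ h₃
    have hL := hS.map_of_exact f.pull
    refine ⟨A.prop_X₂_of_shortExact hL h₁.1 h₃.1, ?_⟩
    let φ : S ⟶ (S.map f.pull).map f.push :=
      { τ₁ := f.adj.unit.app _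
        τ₂ := f.adj.unit.app _
        τ₃ := f.adj.unit.app _
        comm₁₂ := (f.adj.unit.naturality S.f).symm
        comm₂₃ := (f.adj.unit.naturality S.g).symm }
    haveI : IsIso φ.τ₁ := h₁.2
    haveI : IsIso φ.τ₃ := h₃.2
    exact ShortComplex.isIso₂_of_shortExact_of_isIso₁₃ φ hS (shortExact_push f A hB' hvan hL h₁.1)

variable [SiteCmp.HasRpushD f] (adj : SiteCmp.pullD f ⊣ SiteCmp.RpushD f)

include hB' hvan in
/-- the derived unit on the essential image -/
theorem isIso_derived_unit (M : ModSite.Mod O_D) (hM : pushA f A M) :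
    IsIso (adj.unit.app (SiteCmp.inD O_D M)) := by
  haveI : f.pull.Additive := f.adj.left_adjoint_additive
  haveI : IsGrothendieckAbelian.{u} (ModSite.Mod O_C) := inferInstance
  let T := modTestSys (ModSite.ringSh O_C)
  let T' := modTestSys (ModSite.ringSh O_D)
  let X := (DerivedCategory.singleFunctor (ModSite.Mod O_C) 0).obj (f.pull.obj M)
  let G := SiteCmp.RpushD f
  haveI : (G.obj X).IsGE 0 := SiteDer.isGE_rightAdjoint adj X 0
  -- no higher cohomology
  haveI : (G.obj X).IsLE 0 := by
    rw [DerivedCategory.isLE_iff]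
    intro i hi
    let e := ((DerivedCategory.homologyFunctor (ModSite.Mod O_D) 0).shiftIso i 0 i (by simp)).app (G.obj X)
    refine IsZero.of_iso ?_ e.symm
    rw [IsZero.iff_id_eq_zero]
    refine T'.gen _ fun W φ => ?_
    rw [Category.comp_id φ]
    obtain ⟨S, hS, h⟩ := T'.local_surj φ
    refine T'.sep φ S hS fun V g hg => ?_
    refine sep_B T' hB' _ fun V' g' hV' => ?_
    obtain ⟨ψ, hψ⟩ := h g hg
    rw [← hψ, ← T'.cl_map]
    suffices hz : T'.S.map g' ≫ ψ = 0 by rw [hz, T'.cl_zero]
    apply (adjShift T' V' i (G.obj X)).symm.injective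
    obtain ⟨ε, hε⟩ := exists_testEquiv f V' i
    obtain ⟨x, hx⟩ := (hε X).2 ((adjShift T' V' i (G.obj X)).symm (T'.S.map g' ≫ ψ))
    obtain ⟨y, hy⟩ := (hε X).2 ((adjShift T' V' i (G.obj X)).symm 0)
    have hv : ∀ z : testObj T (f.fn.obj V') i ⟶ X, z = 0 := hom_eq_zero T _ i X 0 fun q hq hqi => by
      by_cases hq0 : q = 0
      · subst hq0
        exact Or.inr fun k hk => hvan V' hV' _ (A.prop_of_iso (DerCat.homologySingleIso 0 _).symm hM.1) k (by omega)
      · exact Or.inl (DerCat.isZero_homology_single 0 q hq0 _)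
    rw [← hx, ← hy, hv x, hv y]
  obtain ⟨M'', ⟨eG⟩⟩ := DerivedCategory.exists_iso_singleFunctor_obj_of_isGE_of_isLE (G.obj X) 0
  let sD := DerivedCategory.singleFunctor (ModSite.Mod O_D) 0
  let eF := (f.pull.mapDerivedCategorySingleFunctor 0).app M
  -- the unit as a map in the heart
  obtain ⟨φ, hφ⟩ := sD.map_surjective (adj.unit.app (sD.obj M) ≫ G.map eF.hom ≫ eG.hom)
  suffices h : IsIso φ by
    haveI : IsIso (sD.map φ) := inferInstance
    have : adj.unit.app (sD.obj M) = sD.map φ ≫ eG.inv ≫ G.map eF.inv := by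
      rw [hφ]; simp
      exact (Category.comp_id _).symm
    show IsIso (adj.unit.app (sD.obj M))
    rw [this]
    infer_instance
  refine SiteDer.isIso_of_bijective φ fun N => ?_
  haveI := hM.2
  have hb : Function.Bijective (fun ψ : N ⟶ M => f.pull.map ψ) := by
    have h1 : (fun ψ : N ⟶ M => f.pull.map ψ) =
        (f.adj.homEquiv N (f.pull.obj M)).symm ∘ (Iso.homToEquiv (asIso (f.adj.unit.app M))) := by
      funext ψ
      simp [Adjunction.homEquiv_counit]
    rw [h1]
    exact (f.adj.homEquiv _ _).symm.bijective.comp (Iso.homToEquiv _).bijective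
  let eN := (f.pull.mapDerivedCategorySingleFunctor 0).app N
  have hs : Function.Bijective (fun ψ : N ⟶ M'' => sD.map ψ) := ⟨fun a b e => sD.map_injective e, sD.map_surjective⟩
  have hsC : Function.Bijective (fun χ : f.pull.obj N ⟶ f.pull.obj M =>
      (DerivedCategory.singleFunctor (ModSite.Mod O_C) 0).map χ) :=
    ⟨fun a b e => Functor.map_injective _ e, Functor.map_surjective _⟩
  refine (Function.Bijective.of_comp_iff' hs _).1 ?_
  have hb2 := ((Iso.homToEquiv eG).bijective.comp ((adj.homEquiv (sD.obj N) X).bijective.comp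
    (Iso.homFromEquiv eN.symm).bijective)).comp (hsC.comp hb)
  convert hb2 using 1
  funext ψ
  simp only [Function.comp_apply, Functor.map_comp, hφ, Iso.homToEquiv_apply, Iso.homFromEquiv_apply,
    Adjunction.homEquiv_unit]
  have h := (f.pull.mapDerivedCategorySingleFunctor 0).hom.naturality ψ
  simp only [Functor.comp_map] at h
  have h2 := adj.unit.naturality (sD.map ψ)
  rw [← Category.assoc (sD.map ψ)]
  erw [h2]
  simp only [Category.assoc, Functor.comp_map]
  congr 1
  erw [← G.map_comp_assoc, h, G.map_comp, Category.assoc]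
  rfl

end Groth.Agent.SiteRlim
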