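import Groth.Agent.SiteRlim.Transfer
import Groth.Agent.SiteRlim.MilnorSeq
import Groth.Agent.SiteRlim.Sites

/-! # Objects with acyclic cohomology sheaves: hypercohomology is sections -/

set_option autoImplicit false
set_option linter.all false
set_option backward.isDefEq.respectTransparency false
set_option backward.defeqAttrib.useBackward true

universe w w' v u u₁

open CategoryTheory Limits Pretriangulated DerivedCategory CategoryTheory.Abelian

namespace Groth.Agent.SiteRlim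

variable {C : Type u₁} [Category.{u₁} C] {J : GrothendieckTopology C}
  {A : Type (u + 1)} [Category.{u} A] [Abelian A] [HasDerivedCategory.{w} A] [HasExt.{w'} A] (T : TestSys J A)

/-- cohomology sheaves without higher cohomology on `V` -/
def Acyc (V : C) (Z : DerivedCategory A) : Prop :=
  ∀ (q : ℤ) (k : ℕ), Subsingleton (Ext.{w'} (T.P.obj V) ((homologyFunctor A q).obj Z) (k + 1))

omit T [HasDerivedCategory A] in
lemma subsingleton_ext_of_iso {P M M' : A} (e : M ≅ M') (k : ℕ) (h : Subsingleton (Ext.{w'} P M k)) :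
    Subsingleton (Ext.{w'} P M' k) := ⟨fun x y => by
  have h2 := congrArg (fun z : Ext.{w'} P M k => z.comp (Ext.mk₀ e.hom) (add_zero k))
    (Subsingleton.elim (h := h) (x.comp (Ext.mk₀ e.inv) (add_zero k)) (y.comp (Ext.mk₀ e.inv) (add_zero k)))
  simpa using h2⟩

omit T [HasDerivedCategory A] in
lemma subsingleton_ext_of_isZero {P M : A} (h : IsZero M) (k : ℕ) : Subsingleton (Ext.{w'} P M k) :=
  ⟨fun x y => by
    rw [← x.comp_mk₀_id, ← y.comp_mk₀_id, h.eq_of_src (𝟙 M) 0, Ext.mk₀_zero, Ext.comp_zero, Ext.comp_zero]⟩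

variable {T}

lemma Acyc.shift {V : C} {Z : DerivedCategory A} (h : Acyc.{w, w'} T V Z) (m : ℤ) : Acyc.{w, w'} T V (Z⟦m⟧) :=
  fun q k => subsingleton_ext_of_iso (((homologyFunctor A 0).shiftIso m q (q + m) (by omega)).app Z).symm _
    (h (q + m) k)

lemma Acyc.truncTower {V : C} {Z : DerivedCategory A} (h : Acyc.{w, w'} T V Z) (n : ℕ) :
    Acyc.{w, w'} T V (CohCx.truncTower Z n) := fun q k => by
  by_cases hq : -(n : ℤ) ≤ q
  · haveI := isIso_homology_toTruncTower Z n q hq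
    exact subsingleton_ext_of_iso (asIso ((homologyFunctor A q).map (CohCx.toTruncTower Z n))) _ (h q k)
  · exact subsingleton_ext_of_isZero (isZero_of_isGE _ (-(n : ℤ)) q (by omega)) _

variable (T)

omit [HasExt A] in
lemma isIso_unitH (P : A) : IsIso (TestSys.unitH P) := by
  rw [TestSys.unitH]
  infer_instance

lemma eq_zero_of_neg (V : C) (Y : DerivedCategory A) (a : ℤ) [Y.IsGE a] (hY : Acyc.{w, w'} T V Y)
    (hpos : ∀ q, 0 ≤ q → IsZero ((homologyFunctor A q).obj Y)) (φ : T.S.obj V ⟶ Y) : φ = 0 := by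
  let e := (shiftFunctorZero' (DerivedCategory A) (-(0 : ℤ)) (by omega)).app (T.S.obj V)
  rw [← cancel_epi e.hom, comp_zero]
  refine hom_eq_zero.{w, w'} T V 0 Y a (fun q _ hq => ?_) _
  by_cases h0 : 0 ≤ q
  · exact Or.inl (hpos q h0)
  · refine Or.inr fun k hk => ?_
    obtain ⟨k', rfl⟩ : ∃ k', k = k' + 1 := ⟨k - 1, by omega⟩
    exact hY q k'

omit [HasExt A] in
lemma cl_single_bijective (V : C) (M : A) :
    Function.Bijective (T.cl : (T.S.obj V ⟶ (singleFunctor A 0).obj M) → _) := by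
  haveI := isIso_unitH (T.P.obj V)
  let e := singleFunctorCompHomologyFunctorIso A 0
  have hs : Function.Bijective ((singleFunctor A 0).map : (T.P.obj V ⟶ M) → _) :=
    ⟨(singleFunctor A 0).map_injective, (singleFunctor A 0).map_surjective⟩
  refine (Function.Bijective.of_comp_iff _ hs).1 ?_
  have h : (T.cl : (T.S.obj V ⟶ (singleFunctor A 0).obj M) → _) ∘ (singleFunctor A 0).map =
      fun g : T.P.obj V ⟶ M => (TestSys.unitH (T.P.obj V) ≫ e.hom.app (T.P.obj V)) ≫ g ≫ e.inv.app M := by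
    funext g
    show TestSys.unitH _ ≫ _ = _
    rw [Category.assoc]
    congr 1
    have := e.hom.naturality g
    simp only [Functor.comp_map, Functor.id_map] at this
    rw [← reassoc_of% this]
    simp
  rw [h]
  exact ((Iso.homFromEquiv (asIso (TestSys.unitH (T.P.obj V) ≫ e.hom.app (T.P.obj V))).symm).bijective).comp
    ((Iso.homToEquiv (e.app M).symm).bijective)

theorem cl_bijective_of_isGE (V : C) (Z : DerivedCategory A) (a : ℤ) [Z.IsGE a] (hZ : Acyc.{w, w'} T V Z) :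
    Function.Bijective (T.cl : (T.S.obj V ⟶ Z) → _) := by
  let t := TStructure.t (C := A)
  let X := (t.truncLE 0).obj Z
  let ι : X ⟶ Z := (t.truncLEι 0).app Z
  haveI : X.IsGE a := (DerivedCategory.isGE_iff _ _).2 fun i hi => by
    by_cases h : i ≤ 0
    · haveI := DerCat.isIso_homology_truncLEι Z 0 i h
      exact (isZero_of_isGE Z a i hi).of_iso (asIso ((homologyFunctor A i).map ι))
    · exact isZero_of_isLE _ 0 i (by omega)
  haveI : (T.S.obj V).IsLE 0 := inferInstanceAs (((singleFunctor A 0).obj (T.P.obj V)).IsLE 0)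
  have hι : Function.Bijective (fun φ : T.S.obj V ⟶ X => φ ≫ ι) := by
    have hT := t.triangleLEGT_distinguished 0 Z
    haveI : ((t.truncGT 0).obj Z).IsGE 1 := inferInstanceAs (((t.truncGT 0).obj Z).IsGE (0 + 1))
    haveI := TStructure.t.isGE_shift ((t.truncGT 0).obj Z) 1 (-1) 2 (by omega)
    refine ⟨fun φ φ' h => ?_, fun ψ => ?_⟩
    · rw [← sub_eq_zero]
      have h' : (φ - φ') ≫ ι = 0 := by rw [Preadditive.sub_comp]; exact sub_eq_zero.2 h
      obtain ⟨χ, hχ⟩ := Triangle.coyoneda_exact₂ _ (inv_rot_of_distTriang _ hT) _ h'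
      rw [hχ, TStructure.t.zero (X := T.S.obj V) (Y := ((t.truncGT 0).obj Z)⟦(-1 : ℤ)⟧) χ 0 2 (by omega)]
      exact zero_comp
    · obtain ⟨φ, hφ⟩ := Triangle.coyoneda_exact₂ _ hT ψ
        (TStructure.t.zero (X := T.S.obj V) (Y := (t.truncGT 0).obj Z) _ 0 1 (by omega))
      exact ⟨φ, hφ.symm⟩
  haveI := DerCat.isIso_homology_truncLEι Z 0 0 le_rfl
  refine (Function.Bijective.of_comp_iff _ hι).1 ?_
  have h1 : (T.cl : (T.S.obj V ⟶ Z) → _) ∘ (fun φ : T.S.obj V ⟶ X => φ ≫ ι) =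
      (fun s => s ≫ (homologyFunctor A 0).map ι) ∘ T.cl := by
    funext φ
    exact T.cl_comp φ ι
  rw [h1]
  refine (Iso.homToEquiv (asIso ((homologyFunctor A 0).map ι))).bijective.comp ?_
  -- concentrated in degrees ≤ 0
  let W := (t.truncLE (-1)).obj X
  let P := (t.truncGT (-1)).obj X
  let π : X ⟶ P := (t.truncGTπ (-1)).app X
  have hT := t.triangleLEGT_distinguished (-1) X
  haveI : P.IsGE 0 := inferInstanceAs (((t.truncGT (-1)).obj X).IsGE (-1 + 1))
  haveI : P.IsLE 0 := (DerivedCategory.isLE_iff _ _).2 fun i hi => by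
    haveI := DerCat.isIso_homology_truncGTπ X (-1) i (by omega)
    exact (isZero_of_isLE X 0 i hi).of_iso (asIso ((homologyFunctor A i).map π)).symm
  haveI : W.IsGE a := (DerivedCategory.isGE_iff _ _).2 fun i hi => by
    by_cases h : i ≤ -1
    · haveI := DerCat.isIso_homology_truncLEι X (-1) i h
      exact (isZero_of_isGE X a i hi).of_iso (asIso ((homologyFunctor A i).map ((t.truncLEι (-1)).app X)))
    · exact isZero_of_isLE _ (-1) i (by omega)
  have hW : Acyc.{w, w'} T V W := fun q k => by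
    by_cases h : q ≤ -1
    · haveI := DerCat.isIso_homology_truncLEι X (-1) q h
      haveI := DerCat.isIso_homology_truncLEι Z 0 q (by omega)
      exact subsingleton_ext_of_iso ((asIso ((homologyFunctor A q).map ι)).symm ≪≫
        (asIso ((homologyFunctor A q).map ((t.truncLEι (-1)).app X))).symm) _ (hZ q k)
    · exact subsingleton_ext_of_isZero (isZero_of_isLE _ (-1) q (by omega)) _
  have hπ : Function.Bijective (fun φ : T.S.obj V ⟶ X => φ ≫ π) := by
    refine ⟨fun φ φ' h => ?_, fun ψ => ?_⟩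
    · rw [← sub_eq_zero]
      have h' : (φ - φ') ≫ π = 0 := by rw [Preadditive.sub_comp]; exact sub_eq_zero.2 h
      obtain ⟨χ, hχ⟩ := Triangle.coyoneda_exact₂ _ hT _ h'
      rw [hχ, eq_zero_of_neg T V W a hW (fun q hq => isZero_of_isLE _ (-1) q (by omega)) χ]
      exact zero_comp
    · haveI := TStructure.t.isGE_shift W a 1 (a - 1) (by omega)
      obtain ⟨φ, hφ⟩ := Triangle.coyoneda_exact₃ _ hT ψ (eq_zero_of_neg T V (W⟦(1 : ℤ)⟧) (a - 1) (hW.shift 1)
        (fun q hq => (isZero_of_isLE W (-1) (q + 1) (by omega)).of_iso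
          (((homologyFunctor A 0).shiftIso 1 q (q + 1) (by omega)).app W)) _)
      exact ⟨φ, hφ.symm⟩
  haveI := DerCat.isIso_homology_truncGTπ X (-1) 0 (by omega)
  obtain ⟨eP⟩ := DerCat.exists_iso_single_homology P 0
  let η : X ⟶ (singleFunctor A 0).obj ((homologyFunctor A 0).obj P) := π ≫ eP.hom
  haveI : IsIso ((homologyFunctor A 0).map η) := by rw [Functor.map_comp]; infer_instance
  have hη : Function.Bijective (fun φ : T.S.obj V ⟶ X => φ ≫ η) := by
    have : (fun φ : T.S.obj V ⟶ X => φ ≫ η) = (fun φ => φ ≫ eP.hom) ∘ (fun φ => φ ≫ π) := by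
      funext φ; exact (Category.assoc _ _ _).symm
    rw [this]
    exact (Iso.homToEquiv eP).bijective.comp hπ
  refine (Function.Bijective.of_comp_iff' (Iso.homToEquiv (asIso ((homologyFunctor A 0).map η))).bijective _).1 ?_
  have h2 : (Iso.homToEquiv (asIso ((homologyFunctor A 0).map η))) ∘ (T.cl : (T.S.obj V ⟶ X) → _) =
      (T.cl : (T.S.obj V ⟶ _) → _) ∘ (fun φ : T.S.obj V ⟶ X => φ ≫ η) := by
    funext φ
    exact (T.cl_comp φ η).symm
  rw [h2]
  exact (cl_single_bijective T V _).comp hη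

variable {B : Set C} (hB : ∀ U : C, ∃ (ι : Type u₁) (Y : ι → C) (g : ∀ i, Y i ⟶ U),
  Sieve.ofArrows Y g ∈ J U ∧ ∀ i, Y i ∈ B)
include hB

omit [HasDerivedCategory A] [HasExt A] T in
theorem exists_B_refinement {V : C} (R : Sieve V) (hR : R ∈ J V) :
    ∃ (ι : Type u₁) (Y : ι → C) (g : ∀ j, Y j ⟶ V),
      (∀ j, R.arrows (g j)) ∧ Sieve.ofArrows Y g ∈ J V ∧ ∀ j, Y j ∈ B := by
  choose ι Y g hg hY using hB
  refine ⟨Σ (W : C) (k : {k : W ⟶ V // R k}), ι W, fun a => Y a.1 a.2.2, fun a => g a.1 a.2.2 ≫ a.2.1.1,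
    fun a => R.downward_closed a.2.1.2 _, J.transitive hR _ fun W k hk => ?_, fun a => hY _ _⟩
  refine J.superset_covering (fun Z z hz => ?_) (hg W)
  obtain ⟨i, b, rfl⟩ := (Sieve.mem_ofArrows_iff _ _ z).1 hz
  exact (Sieve.mem_ofArrows_iff _ _ _).2 ⟨⟨W, ⟨k, hk⟩, i⟩, b, by simp⟩

/-- acyclic cohomology sheaves: classes are sections, on `B` -/
theorem cl_bijective [IsGrothendieckAbelian.{u} A] (Z : DerivedCategory A)
    (hZ : ∀ V ∈ B, Acyc.{w, w'} T V Z) {V : C} (hV : V ∈ B) :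
    Function.Bijective (T.cl : (T.S.obj V ⟶ Z) → _) := by
  haveI := hasProduct_nat (CohCx.truncTower Z)
  have hL := isRlimVia_truncTower.{w, w'} T hB Z (fun W _ => ⟨fun _ => 0, fun R hR => by
    obtain ⟨ι, Y, g, h1, h2, h3⟩ := exists_B_refinement hB R hR
    refine ⟨ι, Y, g, h1, h2, fun j m k hk _ => ?_⟩
    obtain ⟨k', rfl⟩ : ∃ k', k = k' + 1 := ⟨k - 1, by simp only at hk; omega⟩
    exact hZ _ (h3 j) (m - (k' + 1 : ℕ)) k'⟩)
  have hn : ∀ n, Function.Bijective (T.cl : (T.S.obj V ⟶ CohCx.truncTower Z n) → _) := fun n =>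
    cl_bijective_of_isGE T V _ (-(n : ℤ)) ((hZ V hV).truncTower n)
  have hs : ∀ n, 1 ≤ n → Function.Surjective
      (fun ψ : (T.S.obj V)⟦(1 : ℤ)⟧ ⟶ CohCx.truncTower Z (n + 1) => ψ ≫ CohCx.truncTowerMap Z n) := by
    intro n hn1 y
    let a := (shiftEquiv (DerivedCategory A) (1 : ℤ)).toAdjunction
    let f := (CohCx.truncTowerMap Z n)⟦(-1 : ℤ)⟧'
    haveI : ((CohCx.truncTower Z (n + 1))⟦(-1 : ℤ)⟧).IsGE (-((n + 1 : ℕ) : ℤ) + 1) :=
      TStructure.t.isGE_shift (CohCx.truncTower Z (n + 1)) (-((n + 1 : ℕ) : ℤ)) (-1) _ (by omega)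
    let e : shiftFunctor (DerivedCategory A) (-1 : ℤ) ⋙ homologyFunctor A 0 ≅ homologyFunctor A (-1) :=
      (homologyFunctor A 0).shiftIso (-1) 0 (-1) (by omega)
    haveI : IsIso ((homologyFunctor A 0).map f) :=
      (NatIso.isIso_map_iff e (CohCx.truncTowerMap Z n)).2 (isIso_homology_truncTowerMap Z n (-1) (by omega))
    obtain ⟨φ, hφ⟩ := (cl_bijective_of_isGE T V ((CohCx.truncTower Z (n + 1))⟦(-1 : ℤ)⟧) (-((n + 1 : ℕ) : ℤ) + 1)
      (((hZ V hV).truncTower (n + 1)).shift (-1))).2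
      (T.cl (a.homEquiv _ _ y) ≫ inv ((homologyFunctor A 0).map f))
    refine ⟨(a.homEquiv _ _).symm φ, (a.homEquiv _ _).injective ?_⟩
    show a.homEquiv _ _ (_ ≫ _) = _
    rw [Adjunction.homEquiv_naturality_right, Equiv.apply_symm_apply]
    haveI : ((CohCx.truncTower Z n)⟦(-1 : ℤ)⟧).IsGE (-(n : ℤ) + 1) :=
      TStructure.t.isGE_shift (CohCx.truncTower Z n) (-(n : ℤ)) (-1) _ (by omega)
    apply (cl_bijective_of_isGE T V ((CohCx.truncTower Z n)⟦(-1 : ℤ)⟧) (-(n : ℤ) + 1) (((hZ V hV).truncTower n).shift (-1))).1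
    rw [T.cl_comp, hφ, Category.assoc]
    erw [IsIso.inv_hom_id, Category.comp_id]
  have hb : ∀ n, 1 ≤ n → Function.Bijective
      (fun ψ : T.S.obj V ⟶ CohCx.truncTower Z (n + 1) => ψ ≫ CohCx.truncTowerMap Z n) := by
    intro n hn1
    haveI := isIso_homology_truncTowerMap Z n 0 (by omega)
    refine (Function.Bijective.of_comp_iff' (hn n) _).1 ?_
    have : T.cl ∘ (fun ψ : T.S.obj V ⟶ CohCx.truncTower Z (n + 1) => ψ ≫ CohCx.truncTowerMap Z n) =
        (Iso.homToEquiv (asIso ((homologyFunctor A 0).map (CohCx.truncTowerMap Z n)))) ∘ T.cl := by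
      funext ψ; exact T.cl_comp ψ _
    rw [this]
    exact (Iso.homToEquiv _).bijective.comp (hn (n + 1))
  have h1 := bijective_comp_of_isRlimVia _ _ (CohCx.toTruncTower Z) hL (T.S.obj V) 1 hb hs 1 le_rfl
  haveI := isIso_homology_toTruncTower Z 1 0 (by omega)
  refine (Function.Bijective.of_comp_iff' (Iso.homToEquiv
    (asIso ((homologyFunctor A 0).map (CohCx.toTruncTower Z 1)))).bijective _).1 ?_
  have : (Iso.homToEquiv (asIso ((homologyFunctor A 0).map (CohCx.toTruncTower Z 1)))) ∘ T.cl =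
      T.cl ∘ (fun φ : T.S.obj V ⟶ Z => φ ≫ CohCx.toTruncTower Z 1) := by
    funext φ; exact (T.cl_comp φ _).symm
  rw [this]
  exact (hn 1).comp h1

omit hB [HasExt A] in
lemma cl_add {U : C} {Y : DerivedCategory A} (φ ψ : T.S.obj U ⟶ Y) : T.cl (φ + ψ) = T.cl φ + T.cl ψ := by
  rw [TestSys.cl, TestSys.cl, TestSys.cl, Functor.map_add, Preadditive.comp_add]

end Groth.Agent.SiteRlim
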