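import Mathlib.Algebra.Homology.DerivedCategory.Fractions
import Mathlib.Algebra.Homology.DerivedCategory.TStructure
import Mathlib.Algebra.Homology.SingleHomology
import Mathlib.CategoryTheory.Sites.Grothendieck

/-! # Cohomology sheaves are locally computed by maps out of test objects -/

set_option autoImplicit false
set_option linter.all false
set_option backward.isDefEq.respectTransparency false
set_option backward.defeqAttrib.useBackward true

universe w v u u₁ v₁

open CategoryTheory Limits DerivedCategory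

namespace Groth.Agent.SiteRlim

variable {C : Type u₁} [Category.{v₁} C] (J : GrothendieckTopology C)
  (A : Type u) [Category.{v} A] [Abelian A]

/-- Test objects: they generate, and morphisms out of them form sheaves. -/
structure TestSys where
  P : C ⥤ A
  sep : ∀ {U : C} {M : A} (φ : P.obj U ⟶ M) (S : Sieve U), S ∈ J U →
    (∀ ⦃W : C⦄ (g : W ⟶ U), S g → P.map g ≫ φ = 0) → φ = 0
  gen : ∀ {M N : A} (f : M ⟶ N), (∀ (U : C) (φ : P.obj U ⟶ M), φ ≫ f = 0) → f = 0
  lift : ∀ {U : C} {M N : A} (q : M ⟶ N) [Epi q] (φ : P.obj U ⟶ N),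
    ∃ S ∈ J U, ∀ ⦃W : C⦄ (g : W ⟶ U), S g → ∃ ψ : P.obj W ⟶ M, ψ ≫ q = P.map g ≫ φ

namespace TestSys

variable {J A} (T : TestSys J A)

lemma sep_ofArrows {U : C} {M : A} (φ : T.P.obj U ⟶ M) {ι : Type*} (Y : ι → C) (g : ∀ i, Y i ⟶ U)
    (hS : Sieve.ofArrows Y g ∈ J U) (h : ∀ i, T.P.map (g i) ≫ φ = 0) : φ = 0 := by
  refine T.sep φ _ hS fun W k hk => ?_
  obtain ⟨i, a, rfl⟩ := (Sieve.mem_ofArrows_iff _ _ k).1 hk
  rw [T.P.map_comp, Category.assoc, h i, comp_zero]

lemma mono_of_test {M N : A} (f : M ⟶ N) (h : ∀ (U : C) (φ : T.P.obj U ⟶ M), φ ≫ f = 0 → φ = 0) :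
    Mono f := by
  refine Preadditive.mono_of_kernel_iso_zero ?_
  have hz : kernel.ι f = 0 := T.gen _ fun U φ => h U _ (by rw [Category.assoc, kernel.condition, comp_zero])
  exact IsZero.isoZero (IsZero.of_mono_eq_zero _ hz)

lemma epi_of_test {M N : A} (f : M ⟶ N) (h : ∀ (U : C) (φ : T.P.obj U ⟶ N),
    ∃ S ∈ J U, ∀ ⦃W : C⦄ (g : W ⟶ U), S g → ∃ ψ : T.P.obj W ⟶ M, ψ ≫ f = T.P.map g ≫ φ) : Epi f := by
  refine Preadditive.epi_of_cancel_zero _ fun {Q} k hk => T.gen k fun U φ => ?_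
  obtain ⟨S, hS, hψ⟩ := h U φ
  refine T.sep _ S hS fun W g hg => ?_
  obtain ⟨ψ, e⟩ := hψ g hg
  rw [← Category.assoc, ← e, Category.assoc, hk, comp_zero]

variable [HasDerivedCategory.{w} A]

/-- the test object in degree zero of the derived category -/
noncomputable abbrev S : C ⥤ DerivedCategory A :=
  T.P ⋙ HomologicalComplex.single A (ComplexShape.up ℤ) 0 ⋙ DerivedCategory.Q

/-- `P = H⁰(P[0])` -/
noncomputable def unitH (P : A) :
    P ⟶ (homologyFunctor A 0).obj (DerivedCategory.Q.obj ((HomologicalComplex.single A (ComplexShape.up ℤ) 0).obj P)) :=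
  (HomologicalComplex.singleObjHomologySelfIso (ComplexShape.up ℤ) 0 P).inv ≫
    (homologyFunctorFactors A 0).inv.app _

lemma unitH_naturality {P P' : A} (g : P' ⟶ P) :
    g ≫ unitH P = unitH P' ≫ (homologyFunctor A 0).map
      (DerivedCategory.Q.map ((HomologicalComplex.single A (ComplexShape.up ℤ) 0).map g)) := by
  rw [unitH, unitH, Category.assoc]
  erw [← (homologyFunctorFactors A 0).inv.naturality]
  rw [← Category.assoc, ← Category.assoc]
  congr 1
  exact (HomologicalComplex.singleObjHomologySelfIso_inv_naturality (ComplexShape.up ℤ) 0 g).symm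

/-- a test map seen in `H⁰` -/
noncomputable def cl {U : C} {Y : DerivedCategory A} (φ : T.S.obj U ⟶ Y) :
    T.P.obj U ⟶ (homologyFunctor A 0).obj Y :=
  unitH (T.P.obj U) ≫ (homologyFunctor A 0).map φ

lemma cl_comp {U : C} {Y Y' : DerivedCategory A} (φ : T.S.obj U ⟶ Y) (f : Y ⟶ Y') :
    T.cl (φ ≫ f) = T.cl φ ≫ (homologyFunctor A 0).map f := by
  rw [cl, cl, Functor.map_comp, Category.assoc]

lemma cl_map {U W : C} (g : W ⟶ U) {Y : DerivedCategory A} (φ : T.S.obj U ⟶ Y) :
    T.cl (T.S.map g ≫ φ) = T.P.map g ≫ T.cl φ := by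
  rw [cl, cl, Functor.map_comp, ← Category.assoc, ← Category.assoc, unitH_naturality]
  rfl

lemma cl_zero {U : C} {Y : DerivedCategory A} : T.cl (0 : T.S.obj U ⟶ Y) = 0 := by
  rw [cl, Functor.map_zero, comp_zero]

section Complex

variable {K : CochainComplex A ℤ}

/-- a map out of a single complex, from a cycle -/
noncomputable def ofCycle {P : A} (z : P ⟶ K.cycles 0) :
    (HomologicalComplex.single A (ComplexShape.up ℤ) 0).obj P ⟶ K :=
  HomologicalComplex.mkHomFromSingle (z ≫ K.iCycles 0) (fun j _ => by simp)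

@[simp]
lemma ofCycle_f {P : A} (z : P ⟶ K.cycles 0) :
    (ofCycle z).f 0 = (HomologicalComplex.singleObjXSelf (ComplexShape.up ℤ) 0 P).hom ≫ z ≫ K.iCycles 0 := by
  simp [ofCycle]

lemma exists_cycle {P : A} (f : (HomologicalComplex.single A (ComplexShape.up ℤ) 0).obj P ⟶ K) :
    ∃ z : P ⟶ K.cycles 0, f = ofCycle z := by
  refine ⟨K.liftCycles ((HomologicalComplex.singleObjXSelf (ComplexShape.up ℤ) 0 P).inv ≫ f.f 0) 1 (by simp) ?_,
    HomologicalComplex.from_single_hom_ext ?_⟩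
  · rw [Category.assoc, f.comm 0 1]
    simp
  · rw [ofCycle_f, HomologicalComplex.liftCycles_i, Iso.hom_inv_id_assoc]

lemma cycle_cycles {P : A} (z : P ⟶ K.cycles 0) :
    (HomologicalComplex.singleObjCyclesSelfIso (ComplexShape.up ℤ) 0 P).inv ≫
      HomologicalComplex.cyclesMap (ofCycle z) 0 = z := by
  rw [← cancel_mono (K.iCycles 0), Category.assoc, HomologicalComplex.cyclesMap_i,
    HomologicalComplex.singleObjCyclesSelfIso_inv_iCycles_assoc, ofCycle_f, Iso.inv_hom_id_assoc]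

/-- the class of `ofCycle z` -/
lemma homologyMap_ofCycle {P : A} (z : P ⟶ K.cycles 0) :
    (HomologicalComplex.singleObjHomologySelfIso (ComplexShape.up ℤ) 0 P).inv ≫
      HomologicalComplex.homologyMap (ofCycle z) 0 = z ≫ K.homologyπ 0 := by
  rw [← cancel_epi (HomologicalComplex.singleObjCyclesSelfIso (ComplexShape.up ℤ) 0 P).hom,
    HomologicalComplex.singleObjHomologySelfIso_hom_singleObjHomologySelfIso_inv_assoc,
    HomologicalComplex.homologyπ_naturality]
  conv_rhs => rw [← cycle_cycles z]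
  simp

lemma cl_Q {U : C} (z : T.P.obj U ⟶ K.cycles 0) :
    T.cl (DerivedCategory.Q.map (ofCycle z)) =
      z ≫ K.homologyπ 0 ≫ (homologyFunctorFactors A 0).inv.app K := by
  rw [cl, unitH, Category.assoc]
  erw [← (homologyFunctorFactors A 0).inv.naturality (ofCycle z)]
  rw [← Category.assoc z, ← homologyMap_ofCycle z, Category.assoc]
  rfl

lemma ofCycle_comp {P : A} {L : CochainComplex A ℤ} (z : P ⟶ K.cycles 0) (f : K ⟶ L) :
    ofCycle z ≫ f = ofCycle (z ≫ HomologicalComplex.cyclesMap f 0) := by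
  apply HomologicalComplex.from_single_hom_ext
  simp [HomologicalComplex.cyclesMap_i]

lemma map_ofCycle {P P' : A} (g : P' ⟶ P) (z : P ⟶ K.cycles 0) :
    (HomologicalComplex.single A (ComplexShape.up ℤ) 0).map g ≫ ofCycle z = ofCycle (g ≫ z) := by
  apply HomologicalComplex.from_single_hom_ext
  simp [HomologicalComplex.single_map_f_self]

end Complex

/-- every test map is locally a map of complexes -/
theorem exists_local_repr {U : C} {K : CochainComplex A ℤ} (φ : T.S.obj U ⟶ DerivedCategory.Q.obj K) :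
    ∃ S ∈ J U, ∀ ⦃W : C⦄ (g : W ⟶ U), S g →
      ∃ z : T.P.obj W ⟶ K.cycles 0, T.S.map g ≫ φ = DerivedCategory.Q.map (ofCycle z) := by
  obtain ⟨X', s, hs, k, rfl⟩ := DerivedCategory.right_fac φ
  have : QuasiIso s := (isIso_Q_map_iff_quasiIso _ s).1 hs
  let e : X'.homology 0 ⟶ T.P.obj U := HomologicalComplex.homologyMap s 0 ≫
    (HomologicalComplex.singleObjHomologySelfIso (ComplexShape.up ℤ) 0 (T.P.obj U)).hom
  haveI : Epi (X'.homologyπ 0 ≫ e) := inferInstance
  obtain ⟨S, hS, hl⟩ := T.lift (X'.homologyπ 0 ≫ e) (𝟙 (T.P.obj U))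
  refine ⟨S, hS, fun W g hg => ?_⟩
  obtain ⟨ψ, hψ⟩ := hl g hg
  refine ⟨ψ ≫ HomologicalComplex.cyclesMap k 0, ?_⟩
  rw [← ofCycle_comp, Functor.map_comp, ← Category.assoc]
  congr 1
  rw [IsIso.comp_inv_eq, Functor.comp_map, Functor.comp_map, ← Functor.map_comp]
  congr 1
  obtain ⟨z, hz⟩ := exists_cycle ((HomologicalComplex.single A (ComplexShape.up ℤ) 0).map (T.P.map g))
  have h2 : z = T.P.map g ≫ (HomologicalComplex.singleObjCyclesSelfIso (ComplexShape.up ℤ) 0 (T.P.obj U)).inv := by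
    rw [← cancel_mono (HomologicalComplex.iCycles _ 0)]
    have h := congrArg (fun t => (HomologicalComplex.singleObjXSelf (ComplexShape.up ℤ) 0 (T.P.obj W)).inv ≫ HomologicalComplex.Hom.f t 0) hz
    simp [HomologicalComplex.single_map_f_self] at h
    simp [← h]
  rw [hz, ofCycle_comp]
  congr 1
  rw [h2, ← cancel_mono (HomologicalComplex.singleObjCyclesSelfIso (ComplexShape.up ℤ) 0 (T.P.obj U)).hom]
  simp only [Category.assoc, Iso.inv_hom_id, Category.comp_id] at hψ ⊢
  rw [← hψ, ← HomologicalComplex.homologyπ_singleObjHomologySelfIso_hom,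
    ← HomologicalComplex.homologyπ_naturality_assoc]

/-- a test map with zero class is locally zero -/
theorem local_zero {U : C} {Y : DerivedCategory A} (φ : T.S.obj U ⟶ Y) (h : T.cl φ = 0) :
    ∃ S ∈ J U, ∀ ⦃W : C⦄ (g : W ⟶ U), S g → T.S.map g ≫ φ = 0 := by
  let e := DerivedCategory.Q.objObjPreimageIso Y
  suffices h' : ∃ S ∈ J U, ∀ ⦃W : C⦄ (g : W ⟶ U), S g → T.S.map g ≫ (φ ≫ e.inv) = 0 by
    obtain ⟨S, hS, hh⟩ := h'
    refine ⟨S, hS, fun W g hg => ?_⟩
    rw [← cancel_mono e.inv, Category.assoc, hh g hg, zero_comp]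
  have h0 : T.cl (φ ≫ e.inv) = 0 := by rw [cl_comp, h, zero_comp]
  generalize φ ≫ e.inv = φ' at h0
  generalize DerivedCategory.Q.objPreimage Y = K at φ' h0
  obtain ⟨S₁, hS₁, h₁⟩ := T.exists_local_repr φ'
  let P' : ∀ ⦃W : C⦄, (W ⟶ U) → Prop := fun W g => T.S.map g ≫ φ' = 0
  let S : Sieve U :=
    { arrows := fun W g => P' g
      downward_closed := fun {W W'} g hg a => by
        show T.S.map (a ≫ g) ≫ φ' = 0
        rw [Functor.map_comp, Category.assoc, hg, comp_zero] }
  refine ⟨S, J.transitive hS₁ _ fun W g hg => ?_, fun W g hg => hg⟩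
  obtain ⟨z, hz⟩ := h₁ g hg
  have hz0 : z ≫ K.homologyπ 0 = 0 := by
    have := congrArg T.cl hz
    rw [cl_map, h0, comp_zero, cl_Q, ← Category.assoc] at this
    exact (cancel_mono ((homologyFunctorFactors A 0).inv.app K)).1 (this.symm.trans zero_comp.symm)
  let sc := ShortComplex.mk (K.toCycles (-1) 0) (K.homologyπ 0) (K.toCycles_comp_homologyπ _ _)
  have hsc : sc.Exact := ShortComplex.exact_of_g_is_cokernel _ (K.homologyIsCokernel (-1) 0 (by simp))
  let z' : T.P.obj W ⟶ kernel (K.homologyπ 0) := kernel.lift _ z hz0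
  let q := kernel.lift (K.homologyπ 0) (K.toCycles (-1) 0) (K.toCycles_comp_homologyπ _ _)
  haveI : Epi q := sc.exact_iff_epi_kernel_lift.1 hsc
  obtain ⟨S₂, hS₂, h₂⟩ := T.lift q z'
  refine J.superset_covering (fun V a ha => ?_) hS₂
  obtain ⟨h, hh⟩ := h₂ a ha
  show T.S.map (a ≫ g) ≫ φ' = 0
  rw [Functor.map_comp, Category.assoc, hz, Functor.comp_map, Functor.comp_map, ← Functor.map_comp, map_ofCycle]
  have hh' : h ≫ K.toCycles (-1) 0 = T.P.map a ≫ z := by
    have := congrArg (fun t => t ≫ kernel.ι (K.homologyπ 0)) hh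
    simpa [q, z'] using this
  rw [← hh']
  refine (DerivedCategory.Q_map_eq_of_homotopy _ (g := 0) ?_).trans (Functor.map_zero _ _ _)
  exact
    { hom := fun i j => if hij : i = 0 ∧ j = -1 then
          eqToHom (by rw [hij.1]) ≫ (HomologicalComplex.singleObjXSelf (ComplexShape.up ℤ) 0 (T.P.obj V)).hom ≫ h ≫
            eqToHom (by rw [hij.2])
        else 0
      zero := fun i j hij => dif_neg (by rintro ⟨rfl, rfl⟩; exact hij (by simp))
      comm := fun i => by
        by_cases hi : i = 0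
        · subst hi
          rw [dNext_eq _ (show (ComplexShape.up ℤ).Rel 0 1 by simp), prevD_eq _ (show (ComplexShape.up ℤ).Rel (-1) 0 by simp)]
          simp
        · exact (HomologicalComplex.isZero_single_obj_X _ _ _ _ hi).eq_of_src _ _ }

/-- every class is locally the class of a test map -/
theorem local_surj {U : C} {Y : DerivedCategory A} (e : T.P.obj U ⟶ (homologyFunctor A 0).obj Y) :
    ∃ S ∈ J U, ∀ ⦃W : C⦄ (g : W ⟶ U), S g → ∃ φ : T.S.obj W ⟶ Y, T.cl φ = T.P.map g ≫ e := by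
  let E := DerivedCategory.Q.objObjPreimageIso Y
  let K := DerivedCategory.Q.objPreimage Y
  obtain ⟨S, hS, h⟩ := T.lift (K.homologyπ 0 ≫ (homologyFunctorFactors A 0).inv.app K)
    (e ≫ (homologyFunctor A 0).map E.inv)
  refine ⟨S, hS, fun W g hg => ?_⟩
  obtain ⟨z, hz⟩ := h g hg
  refine ⟨DerivedCategory.Q.map (ofCycle z) ≫ E.hom, ?_⟩
  rw [cl_comp, cl_Q, hz]
  simp [← Functor.map_comp]

end TestSys

end Groth.Agent.SiteRlim
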