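import Groth.Agent.SiteRlim.Local
import Groth.Agent.DerCat.Devissage
import Groth.Prelude.Def_CohCx

/-! # Cohomology of derived limits on a site -/

set_option autoImplicit false
set_option linter.all false
set_option backward.isDefEq.respectTransparency false
set_option backward.defeqAttrib.useBackward true

universe w v u v₁ u₁

open CategoryTheory Limits Pretriangulated DerivedCategory

namespace Groth.Agent.SiteRlim

section Milnor

variable {D : Type*} [Category* D] [Preadditive D] [HasZeroObject D] [HasShift D ℤ]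
  [∀ n : ℤ, (shiftFunctor D n).Additive] [Pretriangulated D]
  (K : ℕ → D) (t : ∀ n, K (n + 1) ⟶ K n) [HasProduct K]

/-- the map whose fibre is the derived limit -/
noncomputable abbrev diffMap : ∏ᶜ K ⟶ ∏ᶜ K := Pi.lift fun n => Pi.π K n - Pi.π K (n + 1) ≫ t n

lemma exists_diff_eq (X : D) (N : ℕ)
    (hs : ∀ n, N ≤ n → Function.Surjective (fun ψ : X ⟶ K (n + 1) => ψ ≫ t n)) (y : X ⟶ ∏ᶜ K) :
    ∃ x : X ⟶ ∏ᶜ K, x ≫ diffMap K t = y := by
  choose r hr using fun n (hn : N ≤ n) => hs n hn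
  -- upwards from `N`
  let up : ∀ k, X ⟶ K (N + k) := fun k => Nat.rec (motive := fun k => X ⟶ K (N + k)) 0
    (fun k xk => r (N + k) (by omega) (xk - y ≫ Pi.π K (N + k))) k
  have hup : ∀ k, up (k + 1) ≫ t (N + k) = up k - y ≫ Pi.π K (N + k) := fun k => hr (N + k) (by omega) _
  -- downwards from `N`
  have hdown : ∀ m, m ≤ N → ∃ x : ∀ n, X ⟶ K n,
      ∀ n, N - m ≤ n → x n - x (n + 1) ≫ t n = y ≫ Pi.π K n := by
    intro m hm
    induction m with
    | zero =>
      refine ⟨fun n => if h : N ≤ n then up (n - N) ≫ eqToHom (by rw [Nat.add_sub_cancel' h]) else 0, fun n hn => ?_⟩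
      obtain ⟨k, rfl⟩ : ∃ k, n = N + k := ⟨n - N, by omega⟩
      dsimp only
      rw [dif_pos (by omega), dif_pos (by omega)]
      have e1 : ∀ a b (h : K (N + a) = K (N + b)), a = b → up a ≫ eqToHom h = up b := by
        rintro a b h rfl; simp
      have e2 : up (N + k - N) ≫ eqToHom (congrArg K (by omega)) = up k := e1 _ _ _ (by omega)
      have e3 : up (N + k + 1 - N) ≫ eqToHom (congrArg K (by omega)) = up (k + 1) := e1 _ _ _ (by omega)
      rw [e2]
      erw [e3]
      rw [hup k]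
      abel
    | succ m ih =>
      obtain ⟨x, hx⟩ := ih (by omega)
      refine ⟨Function.update x (N - (m + 1)) (y ≫ Pi.π K (N - (m + 1)) + x (N - (m + 1) + 1) ≫ t (N - (m + 1))),
        fun n hn => ?_⟩
      rw [Function.update_of_ne (show n + 1 ≠ N - (m + 1) by omega)]
      by_cases h : n = N - (m + 1)
      · subst h
        rw [Function.update_self]
        abel
      · rw [Function.update_of_ne h]
        exact hx n (by omega)
  obtain ⟨x, hx⟩ := hdown N le_rfl
  refine ⟨Pi.lift x, Pi.hom_ext _ _ fun n => ?_⟩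
  rw [Category.assoc, Pi.lift_π, Preadditive.comp_sub, Pi.lift_π, ← Category.assoc, Pi.lift_π]
  exact hx n (by omega)

/-- Milnor: maps into a derived limit of an eventually constant system -/
theorem bijective_comp_of_isRlimVia {L : D} (a : ∀ n, L ⟶ K n) (hL : CohCx.IsRlimVia K t L a) (X : D) (N : ℕ)
    (hb : ∀ n, N ≤ n → Function.Bijective (fun ψ : X ⟶ K (n + 1) => ψ ≫ t n))
    (hs : ∀ n, N ≤ n → Function.Surjective (fun ψ : X⟦(1 : ℤ)⟧ ⟶ K (n + 1) => ψ ≫ t n))
    (n : ℕ) (hn : N ≤ n) : Function.Bijective (fun φ : X ⟶ L => φ ≫ a n) := by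
  obtain ⟨c, hT⟩ := hL
  have hcomp : ∀ k, a (k + 1) ≫ t k = a k := fun k => by
    have h : Pi.lift a ≫ diffMap K t = 0 := comp_distTriang_mor_zero₁₂ _ hT
    have := congrArg (fun q => q ≫ Pi.π K k) h
    simp only [Category.assoc, Pi.lift_π, Preadditive.comp_sub, zero_comp] at this
    rw [← Category.assoc, Pi.lift_π, sub_eq_zero] at this
    exact this.symm
  constructor
  · intro φ₁ φ₂ he
    rw [← sub_eq_zero]
    have he' : (φ₁ - φ₂) ≫ a n = 0 := by rw [Preadditive.sub_comp]; exact sub_eq_zero.2 he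
    generalize φ₁ - φ₂ = φ at he'
    have hk : ∀ k, φ ≫ a k = 0 := by
      have hge : ∀ k, φ ≫ a (n + k) = 0 := by
        intro k
        induction k with
        | zero => exact he'
        | succ k ih =>
          apply (hb (n + k) (by omega)).1
          show (φ ≫ a (n + k + 1)) ≫ t (n + k) = 0 ≫ t (n + k)
          rw [Category.assoc, hcomp, ih, zero_comp]
      have hle : ∀ j k, φ ≫ a (k + j) = 0 → φ ≫ a k = 0 := by
        intro j
        induction j with
        | zero => exact fun k h => h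
        | succ j ih =>
          intro k h
          apply ih
          rw [← hcomp (k + j), ← Category.assoc]
          erw [h, zero_comp]
      intro k
      exact hle n k (by rw [Nat.add_comm]; exact hge k)
    have h1 : φ ≫ Pi.lift a = 0 := Pi.hom_ext _ _ fun k => by rw [Category.assoc, Pi.lift_π, hk k, zero_comp]
    obtain ⟨y, hy⟩ := Triangle.coyoneda_exact₃ _ (rot_of_distTriang _ hT) (φ⟦(1 : ℤ)⟧') (by
      show φ⟦(1 : ℤ)⟧' ≫ (-(Pi.lift a)⟦(1 : ℤ)⟧') = 0
      rw [Preadditive.comp_neg, ← Functor.map_comp, h1, Functor.map_zero, neg_zero])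
    obtain ⟨y', hy'⟩ := exists_diff_eq K t _ N hs y
    apply (shiftFunctor D (1 : ℤ)).map_injective
    rw [hy, Functor.map_zero, ← hy']
    show (y' ≫ diffMap K t) ≫ c = 0
    rw [Category.assoc]
    erw [comp_distTriang_mor_zero₂₃ _ hT]
    rw [comp_zero]
  · intro ψ
    -- a compatible family through `ψ`
    have key : ∀ k, ∃ x : ∀ m, X ⟶ K m, x n = ψ ∧ ∀ m, m < n + k → x (m + 1) ≫ t m = x m := by
      intro k
      induction k with
      | zero =>
        have : ∀ j, j ≤ n → ∃ x : ∀ m, X ⟶ K m, x n = ψ ∧ ∀ m, n - j ≤ m → m < n → x (m + 1) ≫ t m = x m := by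
          intro j hj
          induction j with
          | zero => exact ⟨Function.update (fun _ => 0) n ψ, Function.update_self .., fun m h₁ h₂ => by omega⟩
          | succ j ih =>
            obtain ⟨x, hx₁, hx₂⟩ := ih (by omega)
            refine ⟨Function.update x (n - (j + 1)) (x (n - (j + 1) + 1) ≫ t (n - (j + 1))),
              (Function.update_of_ne (by omega) ..).trans hx₁, fun m h₁ h₂ => ?_⟩
            rw [Function.update_of_ne (show m + 1 ≠ n - (j + 1) by omega)]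
            by_cases h : m = n - (j + 1)
            · subst h; rw [Function.update_self]
            · rw [Function.update_of_ne h]; exact hx₂ m (by omega) h₂
        obtain ⟨x, hx₁, hx₂⟩ := this n le_rfl
        exact ⟨x, hx₁, fun m hm => hx₂ m (by omega) (by omega)⟩
      | succ k ih =>
        obtain ⟨x, hx₁, hx₂⟩ := ih
        obtain ⟨z, hz⟩ := (hb (n + k) (by omega)).2 (x (n + k))
        refine ⟨Function.update x (n + k + 1) z, (Function.update_of_ne (by omega) ..).trans hx₁, fun m hm => ?_⟩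
        rw [Function.update_of_ne (show m ≠ n + k + 1 by omega)]
        by_cases h : m = n + k
        · subst h; rw [Function.update_self]; exact hz
        · rw [Function.update_of_ne (show m + 1 ≠ n + k + 1 by omega)]
          exact hx₂ m (by omega)
    choose x hx₁ hx₂ using key
    have hstab : ∀ k l m, n ≤ m → m ≤ n + k → m ≤ n + l → x k m = x l m := by
      intro k l m hm hk hl
      obtain ⟨j, rfl⟩ : ∃ j, m = n + j := ⟨m - n, by omega⟩
      induction j with
      | zero => exact (hx₁ k).trans (hx₁ l).symm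
      | succ j ih =>
        apply (hb (n + j) (by omega)).1
        show x k (n + j + 1) ≫ t (n + j) = x l (n + j + 1) ≫ t (n + j)
        rw [hx₂ k (n + j) (by omega), hx₂ l (n + j) (by omega)]
        exact ih (by omega) (by omega) (by omega)
    have hlow : ∀ k l j m, m + j = n → x k m = x l m := by
      intro k l j
      induction j with
      | zero => rintro m rfl; exact (hx₁ k).trans (hx₁ l).symm
      | succ j ih =>
        intro m hm
        rw [← hx₂ k m (by omega), ← hx₂ l m (by omega), ih (m + 1) (by omega)]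
    let xx : ∀ m, X ⟶ K m := fun m => x (m + 1) m
    have hxx : ∀ m, xx (m + 1) ≫ t m = xx m := fun m => by
      show x (m + 1 + 1) (m + 1) ≫ t m = x (m + 1) m
      rw [hx₂ _ m (by omega)]
      by_cases hm : n ≤ m
      · exact hstab _ _ m hm (by omega) (by omega)
      · exact hlow _ _ (n - m) m (by omega)
    obtain ⟨φ, hφ⟩ := Triangle.coyoneda_exact₂ _ hT (Pi.lift xx) (Pi.hom_ext _ _ fun m => by
      show (Pi.lift xx ≫ diffMap K t) ≫ Pi.π K m = 0 ≫ Pi.π K m
      rw [Category.assoc, Pi.lift_π, Preadditive.comp_sub, Pi.lift_π, ← Category.assoc, Pi.lift_π, hxx m,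
        sub_self, zero_comp])
    refine ⟨φ, ?_⟩
    have h := congrArg (fun q => q ≫ Pi.π K n) hφ
    show φ ≫ a n = ψ
    rw [← hx₁ (n + 1)]
    simpa [xx] using h.symm

/-- The comparison with a derived limit. -/
theorem isRlimVia_of_isIso {L L' : D} (a : ∀ n, L ⟶ K n) (hL : CohCx.IsRlimVia K t L a)
    (a' : ∀ n, L' ⟶ K n) (e : L' ⟶ L) [IsIso e] (he : ∀ n, e ≫ a n = a' n) : CohCx.IsRlimVia K t L' a' := by
  obtain ⟨c, hT⟩ := hL
  refine ⟨c ≫ (inv e)⟦(1 : ℤ)⟧', isomorphic_distinguished _ hT _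
    (Triangle.isoMk _ _ (asIso e) (Iso.refl _) (Iso.refl _) ?_ ?_ ?_)⟩
  · exact Pi.hom_ext _ _ fun n => by simp [he]
  · simp
  · simp [← Functor.map_comp]

theorem exists_isRlimVia :
    ∃ (L : D) (a : ∀ n, L ⟶ K n), CohCx.IsRlimVia K t L a := by
  obtain ⟨L, f, c, hT⟩ := distinguished_cocone_triangle₁ (diffMap K t)
  refine ⟨L, fun n => f ≫ Pi.π K n, c, ?_⟩
  have : Pi.lift (fun n => f ≫ Pi.π K n) = f := Pi.hom_ext _ _ fun n => by simp
  rw [this]
  exact hT

theorem exists_lift_isRlimVia {L : D} (a : ∀ n, L ⟶ K n) (hL : CohCx.IsRlimVia K t L a) {E : D}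
    (b : ∀ n, E ⟶ K n) (hb : ∀ n, b (n + 1) ≫ t n = b n) : ∃ e : E ⟶ L, ∀ n, e ≫ a n = b n := by
  obtain ⟨c, hT⟩ := hL
  obtain ⟨e, he⟩ := Triangle.coyoneda_exact₂ _ hT (Pi.lift b) (Pi.hom_ext _ _ fun m => by
    show (Pi.lift b ≫ diffMap K t) ≫ Pi.π K m = 0 ≫ Pi.π K m
    rw [Category.assoc, Pi.lift_π, Preadditive.comp_sub, Pi.lift_π, ← Category.assoc, Pi.lift_π, hb m,
      sub_self, zero_comp])
  refine ⟨e, fun n => ?_⟩
  have h := congrArg (fun q => q ≫ Pi.π K n) he
  simpa using h.symm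

end Milnor

variable {C : Type u₁} [Category.{v₁} C] {J : GrothendieckTopology C}
  {A : Type u} [Category.{v} A] [Abelian A] [HasDerivedCategory.{w} A] (T : TestSys J A)

/-- the test object in degree `i` -/
noncomputable abbrev testObj (U : C) (i : ℤ) : DerivedCategory A := (T.S.obj U)⟦-i⟧

/-- maps out of the shifted test object -/
noncomputable def adjShift (U : C) (i : ℤ) (Z : DerivedCategory A) :
    (testObj T U i ⟶ Z) ≃ (T.S.obj U ⟶ Z⟦i⟧) :=
  ((shiftEquiv' (DerivedCategory A) (-i) i (by simp)).toAdjunction.homEquiv _ _)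

lemma adjShift_comp (U : C) (i : ℤ) {Z Z' : DerivedCategory A} (φ : testObj T U i ⟶ Z) (f : Z ⟶ Z') :
    adjShift T U i Z' (φ ≫ f) = adjShift T U i Z φ ≫ f⟦i⟧' :=
  (shiftEquiv' (DerivedCategory A) (-i) i (by simp)).toAdjunction.homEquiv_naturality_right φ f

variable {B : Set C} (hB : ∀ U : C, ∃ (ι : Type*) (Y : ι → C) (g : ∀ i, Y i ⟶ U),
  Sieve.ofArrows Y g ∈ J U ∧ ∀ i, Y i ∈ B)
include hB

lemma sep_B {U : C} {M : A} (φ : T.P.obj U ⟶ M)
    (h : ∀ (W : C) (g : W ⟶ U), W ∈ B → T.P.map g ≫ φ = 0) : φ = 0 := by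
  obtain ⟨ι, Y, g, hS, hY⟩ := hB U
  exact T.sep_ofArrows φ Y g hS fun i => h _ (g i) (hY i)

/-- cohomology sheaves of a derived limit -/
theorem isIso_homology_rlim (K : ℕ → DerivedCategory A) (t : ∀ n, K (n + 1) ⟶ K n) [HasProduct K]
    (L : DerivedCategory A) (a : ∀ n, L ⟶ K n) (hL : CohCx.IsRlimVia K t L a) (i : ℤ) (n₀ : ℕ)
    (hconst : ∀ n, n₀ ≤ n → IsIso ((homologyFunctor A i).map (t n)))
    (hbij : ∀ V ∈ B, ∃ N : ℕ, ∀ R ∈ J V, ∃ (ι : Type u₁) (Y : ι → C) (g : ∀ j, Y j ⟶ V),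
      (∀ j, R.arrows (g j)) ∧ Sieve.ofArrows Y g ∈ J V ∧ ∀ j n, N ≤ n →
        Function.Bijective (fun ψ : testObj T (Y j) i ⟶ K (n + 1) => ψ ≫ t n) ∧
        Function.Surjective (fun ψ : testObj T (Y j) (i - 1) ⟶ K (n + 1) => ψ ≫ t n))
    (n : ℕ) (hn : n₀ ≤ n) : IsIso ((homologyFunctor A i).map (a n)) := by
  let e := (homologyFunctor A 0).shiftIso i 0 i (by simp)
  let H : DerivedCategory A ⥤ A := shiftFunctor (DerivedCategory A) i ⋙ homologyFunctor A 0
  suffices h : IsIso (H.map (a n)) from (NatIso.isIso_map_iff e (a n)).1 h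
  obtain ⟨c, hT⟩ := hL
  have hcomp : ∀ k, a (k + 1) ≫ t k = a k := fun k => by
    have h : Pi.lift a ≫ diffMap K t = 0 := comp_distTriang_mor_zero₁₂ _ hT
    have := congrArg (fun q => q ≫ Pi.π K k) h
    simp only [Category.assoc, Pi.lift_π, Preadditive.comp_sub, zero_comp] at this
    rw [← Category.assoc, Pi.lift_π, sub_eq_zero] at this
    exact this.symm
  have htr : ∀ k, n ≤ k → ∃ θ : H.obj (K k) ⟶ H.obj (K n), IsIso θ ∧ H.map (a k) ≫ θ = H.map (a n) := by
    intro k hk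
    induction k, hk using Nat.le_induction with
    | base => exact ⟨𝟙 _, inferInstance, Category.comp_id _⟩
    | succ k hk ih =>
      obtain ⟨θ, hθ, hθ'⟩ := ih
      haveI : IsIso (H.map (t k)) := (NatIso.isIso_map_iff e (t k)).2 (hconst k (le_trans hn hk))
      refine ⟨H.map (t k) ≫ θ, inferInstance, ?_⟩
      rw [← Category.assoc, ← H.map_comp, hcomp, hθ']
  have hX1 : ∀ V, testObj T V (i - 1) ≅ (testObj T V i)⟦(1 : ℤ)⟧ := fun V =>
    (shiftFunctorAdd' (DerivedCategory A) (-i) 1 (-(i - 1)) (by omega)).app _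
  have hmil : ∀ (V : C) (N : ℕ), (∀ n, N ≤ n →
        Function.Bijective (fun ψ : testObj T V i ⟶ K (n + 1) => ψ ≫ t n) ∧
        Function.Surjective (fun ψ : testObj T V (i - 1) ⟶ K (n + 1) => ψ ≫ t n)) →
      ∀ m, N ≤ m → Function.Bijective (fun ψ : T.S.obj V ⟶ L⟦i⟧ => ψ ≫ (a m)⟦i⟧') := by
    intro V N h m hm
    have hb := bijective_comp_of_isRlimVia K t a ⟨c, hT⟩ (testObj T V i) N (fun k hk => (h k hk).1)
      (fun k hk y => by
        obtain ⟨x, hx⟩ := (h k hk).2 ((hX1 V).hom ≫ y)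
        refine ⟨(hX1 V).inv ≫ x, ?_⟩
        simp only [Category.assoc] at hx ⊢
        rw [hx, Iso.inv_hom_id_assoc]) m hm
    have : (fun ψ : T.S.obj V ⟶ L⟦i⟧ => ψ ≫ (a m)⟦i⟧') =
        adjShift T V i (K m) ∘ (fun φ : testObj T V i ⟶ L => φ ≫ a m) ∘ (adjShift T V i L).symm := by
      funext ψ
      rw [Function.comp_apply, Function.comp_apply, adjShift_comp, Equiv.apply_symm_apply]
    rw [this]
    exact (adjShift T V i (K m)).bijective.comp (hb.comp (adjShift T V i L).symm.bijective)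
  haveI : Mono (H.map (a n)) := T.mono_of_test _ fun U s hs => by
    refine sep_B T hB s fun W g hW => ?_
    obtain ⟨N, hN⟩ := hbij W hW
    let m := max n N
    obtain ⟨θ, hθ, hθ'⟩ := htr m (le_max_left _ _)
    have hs' : (T.P.map g ≫ s) ≫ H.map (a m) = 0 := by
      rw [← cancel_mono θ, Category.assoc, Category.assoc, hθ', hs, comp_zero, zero_comp]
    generalize T.P.map g ≫ s = s' at hs'
    obtain ⟨S₁, hS₁, h₁⟩ := T.local_surj s'
    refine T.sep s' S₁ hS₁ fun V k hk => ?_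
    obtain ⟨φ, hφ⟩ := h₁ k hk
    refine sep_B T hB _ fun V' k' hV' => ?_
    -- refine once more
    obtain ⟨N', hN'⟩ := hbij V' hV'
    let m' := max m N'
    obtain ⟨θ₁, hθ₁, hθ₁'⟩ := htr m' (le_trans (le_max_left _ _) (le_max_left _ _))
    have hs'' : s' ≫ H.map (a m') = 0 := by
      rw [← cancel_mono θ₁, Category.assoc, hθ₁', ← hθ', ← Category.assoc, hs', zero_comp, zero_comp]
    have h0 : T.cl ((T.S.map k' ≫ φ) ≫ (a m')⟦i⟧') = 0 := by
      rw [T.cl_comp, T.cl_map, hφ, Category.assoc, Category.assoc]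
      erw [hs'']
      rw [comp_zero, comp_zero]
    obtain ⟨S₂, hS₂, h₂⟩ := T.local_zero _ h0
    obtain ⟨ι, Y, y, hy, hyS, hyb⟩ := hN' S₂ hS₂
    rw [← hφ, ← T.cl_map]
    refine T.sep_ofArrows _ Y y hyS fun j => ?_
    have : T.S.map (y j) ≫ T.S.map k' ≫ φ = 0 := by
      apply (hmil (Y j) N' (fun l hl => hyb j l hl) m' (le_max_right _ _)).1
      show _ ≫ (a m')⟦i⟧' = 0 ≫ _
      rw [zero_comp, Category.assoc]
      exact h₂ (y j) (hy j)
    rw [← T.cl_map, this, T.cl_zero]
  haveI : Epi (H.map (a n)) := T.epi_of_test _ fun U s => by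
    let S : Sieve U :=
      { arrows := fun W g => ∃ ψ : T.P.obj W ⟶ H.obj L, ψ ≫ H.map (a n) = T.P.map g ≫ s
        downward_closed := fun {W W'} g hg b => by
          obtain ⟨ψ, hψ⟩ := hg
          exact ⟨T.P.map b ≫ ψ, by rw [Category.assoc, hψ, T.P.map_comp, Category.assoc]⟩ }
    refine ⟨S, ?_, fun W g hg => hg⟩
    obtain ⟨ι, Y, g, hS, hY⟩ := hB U
    refine J.transitive hS _ fun W w hw => ?_
    obtain ⟨j, b, rfl⟩ := (Sieve.mem_ofArrows_iff _ _ w).1 hw
    rw [Sieve.pullback_comp]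
    refine J.pullback_stable b ?_
    obtain ⟨N, hN⟩ := hbij (Y j) (hY j)
    let m := max n N
    obtain ⟨θ, hθ, hθ'⟩ := htr m (le_max_left _ _)
    obtain ⟨S₁, hS₁, h₁⟩ := T.local_surj ((T.P.map (g j) ≫ s) ≫ inv θ)
    obtain ⟨κ, Z, z, hz, hzS, hzb⟩ := hN S₁ hS₁
    refine J.superset_covering (fun V k hk => ?_) hzS
    obtain ⟨l, k', rfl⟩ := (Sieve.mem_ofArrows_iff _ _ k).1 hk
    apply Sieve.downward_closed
    obtain ⟨φ, hφ⟩ := h₁ (z l) (hz l)
    obtain ⟨ψ, hψ⟩ := (hmil (Z l) N (fun q hq => hzb l q hq) m (le_max_right _ _)).2 φ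
    refine ⟨T.cl ψ, ?_⟩
    have h := congrArg T.cl hψ
    rw [T.cl_comp, hφ] at h
    rw [← hθ', ← Category.assoc]
    erw [h]
    simp [T.P.map_comp]
  exact isIso_of_mono_of_epi _

end Groth.Agent.SiteRlim
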