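import Groth.Agent.SiteRlim.Acyclic

/-! # Cohomology sheaves of derived limits of systems without `R¹lim` -/

set_option autoImplicit false
set_option linter.all false
set_option backward.isDefEq.respectTransparency false
set_option backward.defeqAttrib.useBackward true

universe w w' u u₁

open CategoryTheory Limits Pretriangulated DerivedCategory CategoryTheory.Abelian Opposite

namespace Groth.Agent.SiteRlim

variable {C : Type u₁} [Category.{u₁} C] {J : GrothendieckTopology C}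
  {A : Type (u + 1)} [Category.{u} A] [Abelian A] [IsGrothendieckAbelian.{u} A] [HasDerivedCategory.{w} A]
  [HasExt.{w'} A] (T : TestSys J A)
  {B : Set C} (hB : ∀ U : C, ∃ (ι : Type u₁) (Y : ι → C) (g : ∀ i, Y i ⟶ U),
  Sieve.ofArrows Y g ∈ J U ∧ ∀ i, Y i ∈ B)
  (K : ℕ → DerivedCategory A) (t : ∀ n, K (n + 1) ⟶ K n) [HasProduct K]
  {L : DerivedCategory A} (a : ∀ n, L ⟶ K n)

include hB

omit [HasProduct K] in
lemma sep_local {U : C} {L : DerivedCategory A} (s : T.P.obj U ⟶ (homologyFunctor A 0).obj L)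
    (h : ∀ (V : C) (v : V ⟶ U) (φ : T.S.obj V ⟶ L), V ∈ B → T.cl φ = T.P.map v ≫ s → T.cl φ = 0) : s = 0 := by
  obtain ⟨S, hS, hl⟩ := T.local_surj s
  refine T.sep s S hS fun W g hg => ?_
  obtain ⟨φ, hφ⟩ := hl g hg
  refine sep_B T hB _ fun V v hV => ?_
  have h2 : T.cl (T.S.map v ≫ φ) = T.P.map (v ≫ g) ≫ s := by
    rw [T.cl_map, hφ, T.P.map_comp, Category.assoc]
  rw [← Category.assoc, ← T.P.map_comp, ← h2]
  exact h V _ _ hV h2

variable (q : ℤ) (hK : ∀ n, ∀ V ∈ B, Acyc.{w, w'} T V (K n))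
  (hlim : ∀ V ∈ B, ∀ u : ∀ n, T.P.obj V ⟶ (homologyFunctor A (q - 1)).obj (K n),
    ∃ z : ∀ n, T.P.obj V ⟶ (homologyFunctor A (q - 1)).obj (K n),
      ∀ n, z n - z (n + 1) ≫ (homologyFunctor A (q - 1)).map (t n) = u n)
  (hL : CohCx.IsRlimVia K t L a)
include hK hlim hL

theorem eq_zero_of_components {V : C} (hV : V ∈ B) (φ : T.S.obj V ⟶ L⟦q⟧) (h : ∀ n, φ ≫ (a n)⟦q⟧' = 0) : φ = 0 := by
  refine eq_zero_of_limOne K t a hL (T.S.obj V) q (fun v => ?_) φ h
  let e : shiftFunctor (DerivedCategory A) (q - 1) ⋙ homologyFunctor A 0 ≅ homologyFunctor A (q - 1) :=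
    (homologyFunctor A 0).shiftIso (q - 1) 0 (q - 1) (by omega)
  let c : ∀ n, (T.S.obj V ⟶ (K n)⟦q - 1⟧) ≃ (T.P.obj V ⟶ (homologyFunctor A (q - 1)).obj (K n)) := fun n =>
    (Equiv.ofBijective T.cl (cl_bijective.{w, w'} T hB ((K n)⟦q - 1⟧) (fun W hW => (hK n W hW).shift _) hV)).trans
      (Iso.homToEquiv (e.app (K n)))
  obtain ⟨z, hz⟩ := hlim V hV (fun n => c n (v n))
  refine ⟨fun n => (c n).symm (z n), fun n => (c n).injective ?_⟩
  rw [← hz n]
  have hadd : ∀ x y, c n (x - y) = c n x - c n y := fun x y => by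
    show T.cl (x - y) ≫ (e.app (K n)).hom = T.cl x ≫ _ - T.cl y ≫ _
    rw [← Preadditive.sub_comp, TestSys.cl, TestSys.cl, TestSys.cl, Functor.map_sub, Preadditive.comp_sub]
  have hcomp : ∀ x, c n (x ≫ (t n)⟦q - 1⟧') = c (n + 1) x ≫ (homologyFunctor A (q - 1)).map (t n) := fun x => by
    show T.cl (x ≫ _) ≫ e.hom.app (K n) = (T.cl x ≫ e.hom.app (K (n + 1))) ≫ _
    rw [T.cl_comp, Category.assoc, Category.assoc]
    exact congrArg (T.cl x ≫ ·) (e.hom.naturality (t n))
  rw [hadd, hcomp, Equiv.apply_symm_apply, Equiv.apply_symm_apply]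

/-- `H^q(R lim) = lim H^q` -/
theorem isIso_homology_to_limit [HasLimit (CohCx.opSequence (fun n => (homologyFunctor A q).obj (K n))
      (fun n => (homologyFunctor A q).map (t n)))]
    (θ : (homologyFunctor A q).obj L ⟶ limit (CohCx.opSequence (fun n => (homologyFunctor A q).obj (K n))
      (fun n => (homologyFunctor A q).map (t n))))
    (hθ : ∀ n, θ ≫ limit.π _ (op n) = (homologyFunctor A q).map (a n)) : IsIso θ := by
  let ε : shiftFunctor (DerivedCategory A) q ⋙ homologyFunctor A 0 ≅ homologyFunctor A q :=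
    (homologyFunctor A 0).shiftIso q 0 q (by omega)
  have hε : ∀ n, (homologyFunctor A 0).map ((a n)⟦q⟧') ≫ ε.hom.app (K n) =
      ε.hom.app L ≫ (homologyFunctor A q).map (a n) := fun n => ε.hom.naturality (a n)
  haveI : Mono θ := T.mono_of_test θ fun U s hs => by
    rw [← cancel_mono (ε.inv.app L), zero_comp]
    refine sep_local T hB (L := L⟦q⟧) (s ≫ ε.inv.app L) fun V v φ hV hφ => ?_
    rw [eq_zero_of_components T hB K t a q hK hlim hL hV φ fun n => ?_, T.cl_zero]
    apply (cl_bijective.{w, w'} T hB ((K n)⟦q⟧) (fun W hW => (hK n W hW).shift _) hV).1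
    rw [T.cl_comp, hφ, T.cl_zero, ← cancel_mono (ε.hom.app (K n)), zero_comp]
    simp only [Category.assoc, hε, Iso.inv_hom_id_app_assoc]
    rw [← hθ, ← Category.assoc s, hs, zero_comp, comp_zero]
  haveI : Epi θ := T.epi_of_test θ fun U s => by
    obtain ⟨ι, Y, g, hS, hY⟩ := hB U
    refine ⟨_, hS, fun W k hk => ?_⟩
    obtain ⟨i, b, rfl⟩ := (Sieve.mem_ofArrows_iff _ _ k).1 hk
    let Φ := CohCx.opSequence (fun n => (homologyFunctor A q).obj (K n)) (fun n => (homologyFunctor A q).map (t n))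
    let e : ∀ n, (T.S.obj (Y i) ⟶ (K n)⟦q⟧) ≃ (T.P.obj (Y i) ⟶ (homologyFunctor A q).obj (K n)) := fun n =>
      (Equiv.ofBijective T.cl (cl_bijective.{w, w'} T hB ((K n)⟦q⟧) (fun W hW => (hK n W hW).shift _) (hY i))).trans
        (Iso.homToEquiv (ε.app (K n)))
    let f : ∀ n, T.S.obj (Y i) ⟶ (K n)⟦q⟧ := fun n => (e n).symm ((T.P.map (g i) ≫ s) ≫ limit.π Φ (op n))
    have hf : ∀ n, f (n + 1) ≫ (t n)⟦q⟧' = f n := fun n => by
      apply (e n).injective
      show T.cl _ ≫ ε.hom.app (K n) = T.cl _ ≫ ε.hom.app (K n)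
      rw [T.cl_comp, Category.assoc,
        show (homologyFunctor A 0).map ((t n)⟦q⟧') ≫ ε.hom.app (K n) = ε.hom.app (K (n + 1)) ≫ _ from
          ε.hom.naturality (t n),
        ← Category.assoc, show T.cl (f (n + 1)) ≫ ε.hom.app (K (n + 1)) = _ from (e (n + 1)).apply_symm_apply _,
        show T.cl (f n) ≫ ε.hom.app (K n) = _ from (e n).apply_symm_apply _, Category.assoc]
      congr 1
      have := limit.w Φ (homOfLE (Nat.le_add_right n 1)).op
      rw [show Φ.map (homOfLE (Nat.le_add_right n 1)).op = (homologyFunctor A q).map (t n) from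
        Functor.ofOpSequence_map_homOfLE_succ _ n] at this
      exact this
    obtain ⟨φ, hφ⟩ := exists_lift_family K t a hL (T.S.obj (Y i)) q f hf
    refine ⟨T.P.map b ≫ T.cl φ ≫ ε.hom.app L, ?_⟩
    simp only [T.P.map_comp, Category.assoc]
    congr 1
    refine limit.hom_ext fun j => ?_
    obtain ⟨n⟩ := j
    simp only [Category.assoc, hθ, ← hε]
    rw [← Category.assoc, ← T.cl_comp, hφ]
    exact ((e n).apply_symm_apply _).trans (Category.assoc _ _ _)
  exact isIso_of_mono_of_epi θ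

end Groth.Agent.SiteRlim

namespace Groth.Agent.SiteRlim

/-- the cone of a compatible family -/
noncomputable def seqCone {D : Type*} [Category* D] (G : ℕ → D) (g : ∀ n, G (n + 1) ⟶ G n) {X : D}
    (x : ∀ n, X ⟶ G n) (hx : ∀ n, x (n + 1) ≫ g n = x n) : Cone (CohCx.opSequence G g) :=
  { pt := X
    π := NatTrans.ofOpSequence (F := (Functor.const ℕᵒᵖ).obj X) (fun n => x n) (fun n => by
      rw [Functor.const_obj_map]
      refine (Category.id_comp (x n)).trans ((hx n).symm.trans ?_)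
      exact congrArg (x (n + 1) ≫ ·) (Functor.ofOpSequence_map_homOfLE_succ g n).symm) }

end Groth.Agent.SiteRlim
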